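import Cfsg.Agent.Lib.StructC.F4Two.Tables
import Cfsg.Agent.Lib.KnownA.CExt.Mult
import Cfsg.Agent.Lib.KnownA.SchurCert

/-!
Central extensions of the group of type `F4` over the field with two elements: lifts of root
elements defined as commutators satisfy all of Steinberg's relations except that one family of
commutators is off by a common central element of order at most two.
-/

set_option autoImplicit false
set_option linter.unusedSectionVars false
set_option maxRecDepth 100000

namespace CfsgLib.StructC.F4Two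

open Cfsg.Lie CfsgLib.Chev CfsgLib.KnownA.CExt
open scoped commutatorElement

theorem beq_true {a b : ℕ} (h : Nat.beq a b = true) : a = b := Nat.eq_of_beq_eq_true h

theorem isNil_spec {l : List ℕ} (h : isNil l = true) : l = [] := by
  rcases l with _ | ⟨a, t⟩
  · rfl
  · exact absurd h (by simp [isNil])

theorem isOne_spec {l : List ℕ} {k : ℕ} (h : isOne l k = true) : l = [k] := by
  rcases l with _ | ⟨a, t⟩
  · exact absurd h (by simp [isOne])
  · have h' : (Nat.beq a k && isNil t) = true := h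
    rw [Bool.and_eq_true] at h'
    rw [beq_true h'.1, isNil_spec h'.2]

theorem isTwo_spec {l : List ℕ} {k m : ℕ} (h : isTwo l k m = true) : l = [k, m] ∨ l = [m, k] := by
  rcases l with _ | ⟨a, t⟩
  · exact absurd h (by simp [isTwo])
  · have h' : ((Nat.beq a k && isOne t m) || (Nat.beq a m && isOne t k)) = true := h
    rw [Bool.or_eq_true, Bool.and_eq_true, Bool.and_eq_true] at h'
    rcases h' with ⟨h1, h2⟩ | ⟨h1, h2⟩
    · exact Or.inl (by rw [beq_true h1, isOne_spec h2])
    · exact Or.inr (by rw [beq_true h1, isOne_spec h2])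

theorem comB_lt {r s : ℕ} (h : comB r s = true) : r < 48 ∧ s < 48 := by
  simp only [comB, validB, Bool.or_eq_true, Bool.and_eq_true, Nat.blt_eq] at h
  rcases h with ⟨h1, h2⟩ | ⟨⟨⟨-, h1⟩, h2⟩, -⟩
  · exact ⟨h2, beq_true h1 ▸ h2⟩
  · exact ⟨h1, h2⟩

theorem base_spec : validB chevF4 baseA baseB = true ∧ validB chevF4 baseB baseA = true ∧
    isTwo (oddR baseA baseB) baseK baseM = true ∧ comB baseK baseM = true ∧
    comB baseB baseK = true ∧ comB baseB baseM = true := by
  have h := base_ok
  simp only [baseOK, Bool.and_eq_true] at h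
  exact ⟨h.1.1.1.1.1, h.1.1.1.1.2, h.1.1.1.2, h.1.1.2, h.1.2, h.2⟩

variable {F : Type*} [Field F] {g : Good chevF4} {X : Type*} [Group X] (S : StData g F X)
variable (h01 : ∀ t : F, t = 0 ∨ t = 1)

/-- The root element. -/
def ye (r : ℕ) : X := S.y r 1

include h01

theorem two_zero : (1 : F) + 1 = 0 := by
  rcases h01 ((1 : F) + 1) with h | h
  · exact h
  · exact absurd (add_left_cancel (h.trans (add_zero (1 : F)).symm)) one_ne_zero

theorem neg_one : (-1 : F) = 1 := neg_eq_of_add_eq_zero_left (two_zero h01)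

theorem cast_int (z : ℤ) : (z : F) = if oddZ z then 1 else 0 := by
  have h2 : (2 : F) = 0 := by linear_combination two_zero h01
  have hz : (z : F) = ((z % 2 : ℤ) : F) := by
    conv_lhs => rw [← Int.emod_add_mul_ediv z 2]
    push_cast
    rw [h2]
    ring
  have ho : oddZ z = true ↔ z % 2 = 1 := by
    simp only [oddZ, Nat.beq_eq]
    show z.natAbs % 2 = 1 ↔ _
    omega
  rcases Int.emod_two_eq_zero_or_one z with e | e
  · rw [hz, e, if_neg (fun h => by rw [ho, e] at h; exact absurd h (by decide)), Int.cast_zero]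
  · rw [hz, e, if_pos (ho.2 e), Int.cast_one]

theorem ye_inv {r : ℕ} (hr : r < 48) : (ye S r)⁻¹ = ye S r := by
  rw [ye, S.y_inv hr, neg_one h01]

theorem ye_sq {r : ℕ} (hr : r < 48) : ye S r * ye S r = 1 := by
  rw [ye, S.add r hr, two_zero h01, S.y_zero hr]

/-- The right hand side of (R2) at parameters one. -/
theorem word_prod {r s : ℕ} (hr : r < 48) (hs : s < 48) :
    ((chevF4.commWord F r s 1 1).map fun p => S.y p.1 p.2).prod = ((oddR r s).map (ye S)).prod := by
  have e : chevF4.commWord F r s 1 1 =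
      (chevF4.commTerms r s).map fun c => (c.1, (c.2.1 : F)) := by
    rw [ChevalleyDatum.commWord]
    refine List.map_congr_left fun c _ => ?_
    rw [neg_one h01, one_pow, one_pow, mul_one, mul_one]
  have hlt : ∀ c ∈ chevF4.commTerms r s, c.1 < chevF4.nroots := fun c hc =>
    (g.commTerms_co S.hc hr hs c hc).1
  rw [e, List.map_map, oddR, g.fterms_eq hr hs]
  generalize chevF4.commTerms r s = T at hlt
  induction T with
  | nil => rfl
  | cons c T ih =>
    have ih' := ih fun d hd => hlt d (List.mem_cons_of_mem _ hd)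
    show S.y c.1 (c.2.1 : F) * _ =
      ((bif oddZ c.2.1 then c.1 :: _ else _).map (ye S)).prod
    rw [cast_int h01 c.2.1]
    cases hz : oddZ c.2.1
    · rw [if_neg (by simp), S.y_zero (hlt c List.mem_cons_self), one_mul, cond_false]
      exact ih'
    · rw [if_pos rfl, cond_true, List.map_cons, List.prod_cons]
      exact congrArg (ye S c.1 * ·) ih'

/-- The commutator of two root elements. -/
theorem bracket {r s : ℕ} (hv : validB chevF4 r s = true) :
    ⁅ye S s, ye S r⁆ = ((oddR r s).map (ye S)).prod := by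
  obtain ⟨hr, hs, hsr, hneg⟩ := valid_spec g hv
  have h := S.comm r s hr hs hsr hneg 1 1
  rw [word_prod S h01 hr hs] at h
  have i1 : (S.y s (1 : F))⁻¹ = S.y s 1 := ye_inv S h01 hs
  have i2 : (S.y r (1 : F))⁻¹ = S.y r 1 := ye_inv S h01 hr
  rw [i1, i2] at h
  rw [commutatorElement_def, ye, ye, i1, i2]
  exact h

theorem ye_comm {r s : ℕ} (h : comB r s = true) : ye S r * ye S s = ye S s * ye S r := by
  simp only [comB, Bool.or_eq_true, Bool.and_eq_true] at h
  rcases h with ⟨h, -⟩ | ⟨hv, hn⟩
  · rw [beq_true h]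
  · have h1 := bracket S h01 hv
    rw [isNil_spec hn, List.map_nil, List.prod_nil, commutatorElement_eq_one_iff_mul_comm] at h1
    exact h1.symm

/-- The reflection as an element. -/
def nq (q : ℕ) : X := ye S q * ye S (chevF4.neg q) * ye S q

/-- Conjugation by the reflection in a root. -/
theorem nq_conj (hlink : g.Linked) {q s : ℕ} (hq : q < 48) (hs : s < 48) :
    rf q s < 48 ∧ nq S q * ye S s * (nq S q)⁻¹ = ye S (rf q s) := by
  have h := allR_upto qw_ok hq
  simp only [Bool.and_eq_true, Nat.blt_eq] at h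
  obtain ⟨⟨hi, hl⟩, hw⟩ := h
  have hw' := beq_true hw
  set l : List (Fin chevF4.rank) := (qw q).1.pmap Fin.mk fun j hj => by
    have := allR_true hl hj
    show j < 4
    simpa [Nat.blt_eq] using this
  have hlv : l.map Fin.val = (qw q).1 := by simp [l, List.map_pmap]
  set i : Fin chevF4.rank := ⟨(qw q).2, hi⟩
  have htab : ∀ (w : List (Fin chevF4.rank)) (x : Fin chevF4.nroots),
      (g.wperm w x : ℕ) = wordApp sdataF4 (w.map Fin.val) x :=
    g.wperm_tab checksF4 structChecksF4
  have hq' : (g.wperm l (g.sroot i) : ℕ) = q := by rw [htab, hlv]; exact hw'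
  have hqn : (g.wperm l (g.nroot (g.sroot i)) : ℕ) = chevF4.neg q := by
    rw [g.wperm_nroot]
    show chevF4.neg (g.wperm l (g.sroot i) : ℕ) = _
    rw [hq']
  have hu : ∀ c : Fˣ, (c : F) = 1 := fun c => (h01 _).resolve_left c.ne_zero
  have hN : ∀ (w : List (Fin chevF4.rank)) (x : Fin chevF4.nroots),
      S.N w * ye S x * (S.N w)⁻¹ = ye S (g.wperm w x : ℕ) := by
    intro w x
    obtain ⟨c, -, h1, -⟩ := S.N_conj_y hlink w x
    rw [ye, h1, hu, one_mul, ye]
  have hn : nq S q = S.N l * S.nI i * (S.N l)⁻¹ := by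
    have e1 := hN l (g.sroot i)
    have e2 := hN l (g.nroot (g.sroot i))
    rw [hq'] at e1
    rw [hqn] at e2
    have e : S.nI i =
        ye S (g.sroot i : ℕ) * ye S (g.nroot (g.sroot i) : ℕ) * ye S (g.sroot i : ℕ) := by
      simp only [StData.nI, StData.nY, ye, inv_one, Units.val_one, neg_one h01]
      rfl
    rw [nq, ← e1, ← e2, e]
    group
  -- the argument
  set s' : Fin chevF4.nroots := g.wperm l.reverse ⟨s, hs⟩
  have hback : g.wperm l s' = ⟨s, hs⟩ := by
    show g.wperm l (g.wperm l.reverse ⟨s, hs⟩) = _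
    rw [g.wperm_reverse, Equiv.Perm.inv_def, Equiv.apply_symm_apply]
  have hrev : ∀ w : List ℕ, List.rec (motive := fun _ => List ℕ) []
      (fun a _ ih => appR ih [a]) w = w.reverse := by
    intro w
    induction w with
    | nil => rfl
    | cons a w ih =>
      show appR _ [a] = _
      rw [ih, appR_eq, List.reverse_cons]
  have hrf : rf q s = (g.wperm l (g.rperm i s') : ℕ) := by
    rw [htab, g.rperm_tab checksF4 structChecksF4, show (s' : ℕ) =
      wordApp sdataF4 (l.reverse.map Fin.val) s from htab _ _, List.map_reverse, hlv, rf, hrev]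
  refine ⟨hrf ▸ Fin.isLt _, ?_⟩
  have e1 : ye S s = S.N l * ye S (s' : ℕ) * (S.N l)⁻¹ := by rw [hN, hback]
  have e2 : S.nI i * ye S (s' : ℕ) * (S.nI i)⁻¹ = ye S (g.rperm i s' : ℕ) := by
    have h1 := S.nI_conj_y hlink i s' 1
    have h2 : (g.eta i s' : F) = 1 := by
      rcases g.eta_sign i.2 s'.2 with h | h <;> rw [h]
      · simp
      · simp [neg_one h01]
    rw [h2, one_mul] at h1
    exact h1
  rw [hrf, ← hN l (g.rperm i s'), ← e2, hn, e1]
  group

section Ext

variable {E : Type*} [Group E] {π : E →* X} (hπ : IsCentralSurj π)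

/-- The pairing of two root elements. -/
noncomputable def pr (r s : ℕ) : E := cpair hπ (ye S r) (ye S s)

theorem pr_self (r : ℕ) : pr S hπ r r = 1 := by
  obtain ⟨x, hx⟩ := hπ.surj (ye S r)
  rw [pr, ← hx, cpair_eq_one_iff]

theorem pr_first {r s : ℕ} (h : firstOK r s = true) : pr S hπ r s = 1 := by
  simp only [firstOK, Bool.and_eq_true] at h
  obtain ⟨⟨⟨⟨-, hv⟩, h1⟩, ha⟩, hb⟩ := h
  have e := bracket S h01 hv
  rw [isOne_spec h1, List.map_cons, List.map_nil, List.prod_cons, List.prod_nil, mul_one] at e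
  rw [pr, ← e]
  exact cpair_commutator hπ (ye_comm S h01 hb) (ye_comm S h01 ha)

theorem pr_second {r s m : ℕ} (h : secondOK r s m = true) : pr S hπ r s = 1 := by
  simp only [secondOK, Bool.and_eq_true, Bool.or_eq_true] at h
  obtain ⟨⟨⟨⟨hv, h2⟩, ha⟩, hb⟩, hm⟩ := h
  set a := (pw r s).2.1
  set b := (pw r s).2.2
  have hB : cpair hπ (ye S r) ⁅ye S b, ye S a⁆ = 1 :=
    cpair_commutator hπ (ye_comm S h01 hb) (ye_comm S h01 ha)
  have hM : cpair hπ (ye S r) (ye S m) = 1 := by
    rcases hm with hm | ⟨-, hm⟩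
    · rw [← beq_true hm]; exact pr_self S h01 hπ r
    · exact pr_first S h01 hπ hm
  have e := bracket S h01 hv
  have hmB : ⁅ye S b, ye S a⁆ ∈ commSet hπ (ye S r) := hB
  have hmM : ye S m ∈ commSet hπ (ye S r) := hM
  have hmem : ye S s ∈ commSet hπ (ye S r) := by
    rcases isTwo_spec h2 with h3 | h3 <;>
      rw [h3, List.map_cons, List.map_cons, List.map_nil, List.prod_cons, List.prod_cons,
        List.prod_nil, mul_one] at e
    · rw [show ye S s = ⁅ye S b, ye S a⁆ * (ye S m)⁻¹ by rw [e, mul_inv_cancel_right]]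
      exact mul_mem hmB (inv_mem hmM)
    · rw [show ye S s = (ye S m)⁻¹ * ⁅ye S b, ye S a⁆ by rw [e, inv_mul_cancel_left]]
      exact mul_mem (inv_mem hmM) hmB
  exact hmem

/-- Lifts of commuting root elements commute. -/
theorem pr_comB {r s : ℕ} (h : comB r s = true) : pr S hπ r s = 1 := by
  obtain ⟨hr, hs⟩ := comB_lt h
  have hp := allR_upto (allR_upto pair_ok hr) hs
  simp only [h, Bool.not_true, Bool.false_or, Bool.or_eq_true] at hp
  rcases hp with ((hp | hp) | hp) | hp
  · rw [beq_true hp]; exact pr_self S h01 hπ s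
  · exact pr_first S h01 hπ hp
  · exact pr_second S h01 hπ hp
  · exact pr_second S h01 hπ hp

/-- The lift of a root element. -/
noncomputable def lk (k : ℕ) : E := pr S hπ (wit k).2 (wit k).1

theorem map_lk {k : ℕ} (hk : k < 48) : π (lk S hπ k) = ye S k := by
  have h := allR_upto wit_ok hk
  simp only [Bool.and_eq_true] at h
  rw [lk, pr, map_cpair, bracket S h01 h.1.1, isOne_spec h.1.2, List.map_cons, List.map_nil,
    List.prod_cons, List.prod_nil, mul_one]

theorem lk_sq {k : ℕ} (hk : k < 48) : lk S hπ k * lk S hπ k = 1 := by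
  have h := allR_upto wit_ok hk
  simp only [Bool.and_eq_true] at h
  obtain ⟨-, hb, -, -⟩ := valid_spec g h.1.1
  obtain ⟨x, hx⟩ := hπ.surj (ye S (wit k).2)
  have h5 := cpair_mul_left hπ (ye S (wit k).2) (ye S (wit k).2) (ye S (wit k).1) hx
  rw [ye_sq S h01 hb, cpair_one_left] at h5
  have hc := lift_comm hπ (pr_comB S h01 hπ h.2) hx (map_lk S h01 hπ hk)
  change x * lk S hπ k = lk S hπ k * x at hc
  change 1 = x * lk S hπ k * x⁻¹ * lk S hπ k at h5
  rw [hc, mul_inv_cancel_right] at h5
  exact h5.symm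

theorem lk_inv {k : ℕ} (hk : k < 48) : (lk S hπ k)⁻¹ = lk S hπ k :=
  inv_eq_of_mul_eq_one_right (lk_sq S h01 hπ hk)

theorem lk_comm {k m : ℕ} (h : comB k m = true) :
    lk S hπ k * lk S hπ m = lk S hπ m * lk S hπ k :=
  lift_comm hπ (pr_comB S h01 hπ h) (map_lk S h01 hπ (comB_lt h).1)
    (map_lk S h01 hπ (comB_lt h).2)

/-- All presentations of a root as a commutator give the same lift. -/
theorem pr_one (hlink : g.Linked) : ∀ n a b k, (stp a b).2 = n → validB chevF4 a b = true →
    isOne (oddR a b) k = true → pr S hπ b a = lk S hπ k := by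
  intro n
  induction n using Nat.strong_induction_on with
  | _ n ih =>
    intro a b k hn hv h1
    obtain ⟨ha, hb, -, -⟩ := valid_spec g hv
    have hk : k < 48 := by
      have hmem : k ∈ oddR a b := by rw [isOne_spec h1]; exact List.mem_singleton_self k
      have key : ∀ T : List (ℕ × ℤ × ℕ × ℕ), k ∈ (List.rec (motive := fun _ => List ℕ) []
          (fun c _ ih => bif oddZ c.2.1 then c.1 :: ih else ih) T) → ∃ c ∈ T, c.1 = k := by
        intro T
        induction T with
        | nil => intro h; simp at h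
        | cons c T ihT =>
          intro h
          change k ∈ (bif oddZ c.2.1 then c.1 :: _ else _) at h
          cases hz : oddZ c.2.1 <;> rw [hz] at h
          · obtain ⟨d, hd, e⟩ := ihT h
            exact ⟨d, List.mem_cons_of_mem _ hd, e⟩
          · rcases List.mem_cons.1 h with h | h
            · exact ⟨c, List.mem_cons_self, h.symm⟩
            · obtain ⟨d, hd, e⟩ := ihT h
              exact ⟨d, List.mem_cons_of_mem _ hd, e⟩
      rw [oddR, g.fterms_eq ha hb] at hmem
      obtain ⟨c, hc, rfl⟩ := key _ hmem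
      exact (g.commTerms_co S.hc ha hb c hc).1
    have hs := allR_upto (allR_upto step_ok ha) hb
    have hl := isOne_spec h1
    simp only [hv, Bool.not_true, Bool.false_or, hl, Bool.or_eq_true, Bool.and_eq_true] at hs
    rcases hs with (hs | ⟨-, hs⟩) | ⟨hs, -⟩
    · exact absurd hs (by simp [isNil])
    rotate_left
    · exact absurd hs (by simp [isTwo, isOne, isNil, fstR, sndR])
    change oneStep a b k = true at hs
    simp only [oneStep, Bool.or_eq_true, Bool.and_eq_true, Nat.blt_eq] at hs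
    rcases hs with ⟨e1, e2⟩ | ⟨⟨⟨⟨⟨⟨⟨hq, hc1⟩, hc2⟩, hv'⟩, h1'⟩, e1⟩, e2⟩, hlt⟩
    · rw [beq_true e1, beq_true e2]; rfl
    set q := (stp a b).1
    obtain ⟨ha', hb', -, -⟩ := valid_spec g hv'
    have hprev := ih _ (hn ▸ hlt) (rf q a) (rf q b) k rfl hv' h1'
    obtain ⟨e, he⟩ := hπ.surj (nq S q)
    have h2 := conj_cpair hπ e (ye S (rf q b)) (ye S (rf q a))
    rw [he, (nq_conj S h01 hlink hq hb').2, (nq_conj S h01 hlink hq ha').2, beq_true e1,
      beq_true e2] at h2
    have hmemq : nq S q ∈ commSet hπ (ye S k) := by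
      have h3 : ye S q ∈ commSet hπ (ye S k) := pr_comB S h01 hπ hc1
      have h4 : ye S (chevF4.neg q) ∈ commSet hπ (ye S k) := by
        rw [neg_eq g.lie.pack hq]
        exact pr_comB S h01 hπ hc2
      exact mul_mem (mul_mem h3 h4) h3
    have h3 := lift_comm hπ hmemq (map_lk S h01 hπ hk) he
    change e * pr S hπ (rf q b) (rf q a) * e⁻¹ = pr S hπ b a at h2
    rw [hprev, ← h3, mul_inv_cancel_right] at h2
    exact h2.symm

/-- Reflections permute the lifts. -/
theorem conj_lk (hlink : g.Linked) {q k : ℕ} (hq : q < 48) (hk : k < 48) {e : E}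
    (he : π e = nq S q) : e * lk S hπ k * e⁻¹ = lk S hπ (rf q k) := by
  have h := allR_upto wit_ok hk
  simp only [Bool.and_eq_true] at h
  obtain ⟨ha, hb, -, -⟩ := valid_spec g h.1.1
  have h' := allR_upto (allR_upto img_ok hq) hk
  simp only [Bool.and_eq_true] at h'
  rw [lk, pr, conj_cpair hπ, he, (nq_conj S h01 hlink hq hb).2, (nq_conj S h01 hlink hq ha).2]
  exact pr_one S h01 hπ hlink _ _ _ _ rfl h'.1 h'.2

theorem lk_swap {k m k' m' : ℕ} (hc : comB k m = true) {l : List ℕ}
    (h1 : isTwo l k m = true) (h2 : isTwo l k' m' = true) :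
    lk S hπ k' * lk S hπ m' = lk S hπ k * lk S hπ m := by
  rcases isTwo_spec h1 with e | e <;> rcases isTwo_spec h2 with e' | e' <;> rw [e] at e' <;>
    obtain ⟨rfl, h⟩ := List.cons.inj e' <;> obtain ⟨rfl, -⟩ := List.cons.inj h
  exacts [rfl, (lk_comm S h01 hπ hc).symm, (lk_comm S h01 hπ hc).symm, rfl]

/-- The exceptional commutators agree with the base one. -/
theorem pr_two (hlink : g.Linked)
    (hbase : pr S hπ baseB baseA = lk S hπ baseK * lk S hπ baseM) :
    ∀ n a b k m, (stp a b).2 = n → validB chevF4 a b = true → comB k m = true →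
      isTwo (oddR a b) k m = true → pr S hπ b a = lk S hπ k * lk S hπ m := by
  intro n
  induction n using Nat.strong_induction_on with
  | _ n ih =>
    intro a b k m hn hv hkm h2
    obtain ⟨ha, hb, -, -⟩ := valid_spec g hv
    have hs := allR_upto (allR_upto step_ok ha) hb
    obtain ⟨hlk, hlm⟩ := comB_lt hkm
    obtain ⟨x, y, hxy⟩ : ∃ x y, oddR a b = [x, y] := by
      rcases isTwo_spec h2 with e | e <;> exact ⟨_, _, e⟩
    simp only [hv, Bool.not_true, Bool.false_or, hxy, Bool.or_eq_true, Bool.and_eq_true] at hs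
    rcases hs with (hs | ⟨hs, -⟩) | ⟨-, hs⟩
    · exact absurd hs (by simp [isNil])
    · exact absurd hs (by simp [isOne, isNil])
    change twoStep a b x y = true at hs
    have hxy2 : isTwo (oddR a b) x y = true := by
      rw [hxy]
      simp [isTwo, isOne, isNil]
    simp only [twoStep, Bool.or_eq_true, Bool.and_eq_true, Nat.blt_eq] at hs
    obtain ⟨hcxy, hs⟩ := hs
    rw [lk_swap S h01 hπ hcxy hxy2 h2]
    obtain ⟨-, -, hb2, hbc, -, -⟩ := base_spec
    rcases hs with (⟨⟨e1, e2⟩, e3⟩ | ⟨⟨e1, e2⟩, e3⟩) |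
      ⟨⟨⟨⟨⟨⟨⟨⟨hq, hv'⟩, hcc⟩, h2'⟩, e1⟩, e2⟩, e3⟩, e4⟩, hlt⟩
    · rw [beq_true e1, beq_true e2, hbase]
      exact lk_swap S h01 hπ hcxy hxy2 e3
    · rw [beq_true e1, beq_true e2, pr, cpair_swap hπ, ← pr, hbase, mul_inv_rev,
        lk_inv S h01 hπ (comB_lt hbc).1, lk_inv S h01 hπ (comB_lt hbc).2,
        ← lk_comm S h01 hπ hbc]
      exact lk_swap S h01 hπ hcxy hxy2 e3
    set q := (stp a b).1
    obtain ⟨ha', hb', -, -⟩ := valid_spec g hv'
    obtain ⟨hlx, hly⟩ := comB_lt hcxy
    obtain ⟨hx', hx⟩ := nq_conj S h01 hlink hq hlx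
    obtain ⟨hy', hy⟩ := nq_conj S h01 hlink hq hly
    have hprev := ih _ (hn ▸ hlt) (rf q a) (rf q b) (rf q x) (rf q y) rfl hv' hcc h2'
    obtain ⟨e, he⟩ := hπ.surj (nq S q)
    have h3 := conj_cpair hπ e (ye S (rf q b)) (ye S (rf q a))
    rw [he, (nq_conj S h01 hlink hq hb').2, (nq_conj S h01 hlink hq ha').2, beq_true e1,
      beq_true e2] at h3
    change e * pr S hπ (rf q b) (rf q a) * e⁻¹ = pr S hπ b a at h3
    rw [← h3, hprev, show e * (lk S hπ (rf q x) * lk S hπ (rf q y)) * e⁻¹ =
        (e * lk S hπ (rf q x) * e⁻¹) * (e * lk S hπ (rf q y) * e⁻¹) by group,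
      conj_lk S h01 hπ hlink hq hx' he, conj_lk S h01 hπ hlink hq hy' he, beq_true e3, beq_true e4]

/-- If the base commutator lifts, all of Steinberg's relations do. -/
theorem exists_lift (hlink : g.Linked)
    (hbase : pr S hπ baseB baseA = lk S hπ baseK * lk S hπ baseM) :
    ∃ τ : chevF4.SteinbergCover F →* E,
      ∀ r < chevF4.nroots, ∀ t, π (τ (chevF4.scGen F r t)) = S.y r t := by
  classical
  set L : ℕ → F → E := fun r t => if t = 0 then 1 else lk S hπ r with hLdef
  have hL0 : ∀ r, L r 0 = 1 := fun r => by simp [hLdef]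
  have hL1 : ∀ r, L r 1 = lk S hπ r := fun r => by simp [hLdef]
  have hmap : ∀ r < chevF4.nroots, ∀ t, π (L r t) = S.y r t := by
    intro r hr t
    rcases h01 t with rfl | rfl
    · rw [hL0, map_one, S.y_zero hr]
    · rw [hL1, map_lk S h01 hπ hr]; rfl
  have hadd : ∀ r < chevF4.nroots, ∀ a b, L r a * L r b = L r (a + b) := by
    intro r hr a b
    rcases h01 a with rfl | rfl <;> rcases h01 b with rfl | rfl <;>
      try simp only [hL0, one_mul, mul_one, add_zero, zero_add]
    rw [two_zero h01, hL0, hL1, lk_sq S h01 hπ hr]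
  have hrel : ∀ r s, r < chevF4.nroots → s < chevF4.nroots → s ≠ r → s ≠ chevF4.neg r →
      ∀ t u : F, (L s u)⁻¹ * (L r t)⁻¹ * L s u * L r t =
        ((chevF4.commWord F r s t u).map fun p => L p.1 p.2).prod := by
    intro r s hr hs hsr hsn t u
    have hz : ∀ (t u : F), t = 0 ∨ u = 0 →
        ((chevF4.commWord F r s t u).map fun p => L p.1 p.2).prod = 1 := by
      intro t u h0
      refine List.prod_eq_one fun x hx => ?_
      obtain ⟨p, hp, rfl⟩ := List.mem_map.1 hx
      obtain ⟨c, hc, rfl⟩ := List.mem_map.1 hp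
      obtain ⟨-, h1, h2, -⟩ := g.commTerms_co S.hc hr hs c hc
      show L c.1 _ = 1
      rcases h0 with rfl | rfl
      · rw [neg_zero, zero_pow (by omega), mul_zero, zero_mul, hL0]
      · rw [zero_pow (M₀ := F) (show c.2.2.2 ≠ 0 by omega), mul_zero, hL0]
    rcases h01 t with rfl | rfl
    · rw [hz 0 u (Or.inl rfl), hL0]; group
    rcases h01 u with rfl | rfl
    · rw [hz 1 0 (Or.inr rfl), hL0]; group
    -- the product on the right
    have hR : ((chevF4.commWord F r s 1 1).map fun p => L p.1 p.2).prod =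
        ((oddR r s).map (lk S hπ)).prod := by
      rw [ChevalleyDatum.commWord, List.map_map, oddR, g.fterms_eq hr hs]
      generalize chevF4.commTerms r s = T
      induction T with
      | nil => rfl
      | cons c T ih =>
        show L c.1 ((c.2.1 : F) * (-1) ^ c.2.2.1 * 1 ^ c.2.2.2) * _ =
          ((bif oddZ c.2.1 then c.1 :: _ else _).map (lk S hπ)).prod
        rw [neg_one h01, one_pow, one_pow, mul_one, mul_one, cast_int h01]
        cases hz' : oddZ c.2.1
        · rw [if_neg (by simp), hL0, one_mul, cond_false]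
          rw [neg_one h01] at ih
          exact ih
        · rw [if_pos rfl, hL1, cond_true, List.map_cons, List.prod_cons]
          rw [neg_one h01] at ih
          exact congrArg (lk S hπ c.1 * ·) ih
    rw [hR, hL1, hL1, lk_inv S h01 hπ hs, lk_inv S h01 hπ hr]
    have hv : validB chevF4 r s = true := by
      simp only [validB, Bool.and_eq_true, Bool.not_eq_true', ← Bool.not_eq_true, Nat.beq_eq,
        Nat.blt_eq]
      exact ⟨⟨⟨Ne.symm hsr, fun e => hsn (e.trans (neg_eq g.lie.pack hr).symm)⟩, hr⟩, hs⟩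
    have hc : lk S hπ s * lk S hπ r * lk S hπ s * lk S hπ r = pr S hπ s r := by
      rw [pr, cpair_eq hπ (map_lk S h01 hπ hs) (map_lk S h01 hπ hr), commutatorElement_def,
        lk_inv S h01 hπ hs, lk_inv S h01 hπ hr]
    rw [hc]
    have hs' := allR_upto (allR_upto step_ok hr) hs
    simp only [hv, Bool.not_true, Bool.false_or, Bool.or_eq_true, Bool.and_eq_true] at hs'
    rcases hs' with (h | ⟨h, -⟩) | ⟨h, h'⟩
    · have hcb : comB r s = true := by
        simp only [comB, hv, h, Bool.and_true, Bool.or_true]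
      rw [isNil_spec h, List.map_nil, List.prod_nil, pr, cpair_swap hπ, ← pr,
        pr_comB S h01 hπ hcb, inv_one]
    · rw [pr_one S h01 hπ hlink _ r s _ rfl hv h]
      conv_rhs => rw [isOne_spec h]
      rw [List.map_cons, List.map_nil, List.prod_cons, List.prod_nil, mul_one]
    · simp only [twoStep, Bool.and_eq_true] at h'
      rw [pr_two S h01 hπ hlink hbase _ r s _ _ rfl hv h'.1 h]
      rcases isTwo_spec h with e | e
      · conv_rhs => rw [e]
        rw [List.map_cons, List.map_cons, List.map_nil, List.prod_cons, List.prod_cons,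
          List.prod_nil, mul_one]
      · rw [lk_comm S h01 hπ h'.1]
        conv_rhs => rw [e]
        rw [List.map_cons, List.map_cons, List.map_nil, List.prod_cons, List.prod_cons,
          List.prod_nil, mul_one]
  have hst : ∀ r < chevF4.nroots, ∀ t,
      FreeGroup.lift (fun p : Fin chevF4.nroots × F => L p.1 p.2) (chevF4.stX r t) = L r t :=
    fun r hr t => by rw [ChevalleyDatum.stX, dif_pos hr, FreeGroup.lift_apply_of]
  have h1 : ∀ x ∈ chevF4.steinbergRelsAB F,
      FreeGroup.lift (fun p : Fin chevF4.nroots × F => L p.1 p.2) x = 1 := by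
    rintro x (⟨r, a, b, hr, rfl⟩ | ⟨r, s, t, u, hr, hs, hsr, hneg, rfl⟩)
    · rw [map_mul, map_mul, map_inv, hst r hr, hst r hr, hst r hr, hadd r hr, mul_inv_cancel]
    · rw [map_mul, map_mul, map_mul, map_mul, map_inv, map_inv, map_inv, hst s hs, hst r hr,
        hrel r s hr hs hsr hneg t u, ChevalleyDatum.stWord, map_list_prod, List.map_map,
        mul_inv_eq_one]
      exact congrArg List.prod (List.map_congr_left fun p hp =>
        (hst _ (LiftData.word_lt S hr hs hp) _).symm)
  exact ⟨PresentedGroup.toGroup h1, fun r hr t => by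
    rw [show PresentedGroup.toGroup h1 (chevF4.scGen F r t) = L r t from hst r hr t, hmap r hr]⟩

/-- The obstruction. -/
noncomputable def kap : E := (lk S hπ baseK * lk S hπ baseM)⁻¹ * pr S hπ baseB baseA

theorem kap_spec : kap S hπ ∈ π.ker ∧ kap S hπ * kap S hπ = 1 := by
  obtain ⟨hv, -, h2, hkm, hbk, hbm⟩ := base_spec
  obtain ⟨-, hb, -, -⟩ := valid_spec g hv
  obtain ⟨hk, hm⟩ := comB_lt hkm
  set P := lk S hπ baseK * lk S hπ baseM with hP
  have hker : kap S hπ ∈ π.ker := by
    rw [MonoidHom.mem_ker, kap, map_mul, map_inv, map_mul, map_lk S h01 hπ hk,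
      map_lk S h01 hπ hm, pr, map_cpair, bracket S h01 hv, inv_mul_eq_one]
    rcases isTwo_spec h2 with e | e <;>
      rw [e, List.map_cons, List.map_cons, List.map_nil, List.prod_cons, List.prod_cons,
        List.prod_nil, mul_one]
    rw [ye_comm S h01 hkm]
  refine ⟨hker, ?_⟩
  have hc : pr S hπ baseB baseA = P * kap S hπ := by rw [kap, mul_inv_cancel_left]
  obtain ⟨x, hx⟩ := hπ.surj (ye S baseB)
  have h5 := cpair_mul_left hπ (ye S baseB) (ye S baseB) (ye S baseA) hx
  rw [ye_sq S h01 hb, cpair_one_left] at h5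
  change 1 = x * pr S hπ baseB baseA * x⁻¹ * pr S hπ baseB baseA at h5
  have c1 := lift_comm hπ (pr_comB S h01 hπ hbk) hx (map_lk S h01 hπ hk)
  have c2 := lift_comm hπ (pr_comB S h01 hπ hbm) hx (map_lk S h01 hπ hm)
  have cP : x * P = P * x := by rw [hP, ← mul_assoc, c1, mul_assoc, c2, ← mul_assoc]
  have hPP : P * P = 1 := by
    rw [hP, mul_assoc, ← mul_assoc (lk S hπ baseM), ← lk_comm S h01 hπ hkm, mul_assoc,
      lk_sq S h01 hπ hm, mul_one, lk_sq S h01 hπ hk]
  rw [hc] at h5
  have hz := hπ.comm hker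
  rw [show x * (P * kap S hπ) * x⁻¹ * (P * kap S hπ) =
      x * P * (kap S hπ * x⁻¹) * (P * kap S hπ) by group, ← hz, cP,
    show P * x * (x⁻¹ * kap S hπ) * (P * kap S hπ) = P * (kap S hπ * P) * kap S hπ by group,
    ← hz, show P * (P * kap S hπ) * kap S hπ = (P * P) * (kap S hπ * kap S hπ) by group,
    hPP, one_mul] at h5
  exact h5.symm

end Ext

end CfsgLib.StructC.F4Two
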