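import Cfsg.Agent.Lib.StructC.F4Two.Data
import Cfsg.Agent.Lib.KnownA.CExt.Three
import Cfsg.Agent.Lib.Chev.TwistWeyl
import Cfsg.Agent.Lib.Chev.StructF4
import Cfsg.Agent.Lib.Chev.CommFormula

/-!
Checks of the certificates for the central extensions of `F4` over the field with two elements.
-/

set_option autoImplicit false
set_option maxRecDepth 100000

namespace CfsgLib.StructC.F4Two

open Cfsg.Lie CfsgLib.Chev CfsgLib.KnownA.CExt

/-- An odd integer. -/
noncomputable def oddZ (z : ℤ) : Bool := Nat.beq (Nat.mod z.natAbs 2) 1

/-- The roots of the commutator of two root elements with parameters one. -/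
noncomputable def oddR (r s : ℕ) : List ℕ :=
  List.rec [] (fun c _ ih => bif oddZ c.2.1 then c.1 :: ih else ih) (fterms chevF4 r s)

/-- The empty list. -/
noncomputable def isNil (l : List ℕ) : Bool := List.rec true (fun _ _ _ => false) l

/-- The list with one given entry. -/
noncomputable def isOne (l : List ℕ) (k : ℕ) : Bool :=
  List.rec false (fun a t _ => Nat.beq a k && isNil t) l

/-- The list with two given entries in either order. -/
noncomputable def isTwo (l : List ℕ) (k m : ℕ) : Bool :=
  List.rec false (fun a t _ => (Nat.beq a k && isOne t m) || (Nat.beq a m && isOne t k)) l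

/-- The first entry. -/
noncomputable def fstR (l : List ℕ) : ℕ := List.rec 0 (fun a _ _ => a) l

/-- The second entry. -/
noncomputable def sndR (l : List ℕ) : ℕ := List.rec 0 (fun _ t _ => fstR t) l

/-- Lifts of commuting root elements are to be compared. -/
noncomputable def comB (r s : ℕ) : Bool :=
  (Nat.beq r s && Nat.blt r 48) || (validB chevF4 r s && isNil (oddR r s))

/-- The word of a root. -/
noncomputable def qw (q : ℕ) : List ℕ × ℕ := nth ([], 0) qwT q

/-- The reflection in a root. -/
noncomputable def rf (q s : ℕ) : ℕ :=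
  wordApp sdataF4 (qw q).1 (refl sdataF4 (qw q).2
    (wordApp sdataF4 (List.rec [] (fun a _ ih => appR ih [a]) (qw q).1) s))

/-- The witness of a root. -/
noncomputable def wit (k : ℕ) : ℕ × ℕ := nth (0, 0) witT k

/-- The witness of a commuting pair. -/
noncomputable def pw (r s : ℕ) : ℕ × ℕ × ℕ := nth (0, 0, 0) (nth [] pairT r) s

/-- The step of a pair. -/
noncomputable def stp (a b : ℕ) : ℕ × ℕ := nth (0, 0) (nth [] stepT a) b

/-- The words of the roots. -/
noncomputable def qwOK : Bool :=
  allR (fun q => Nat.blt (qw q).2 4 && allR (fun j => Nat.blt j 4) (qw q).1 &&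
    Nat.beq (wordApp sdataF4 (qw q).1 (chevF4.simple (qw q).2)) q) (upto 48)

/-- A commuting witness of the first kind. -/
noncomputable def firstOK (r s : ℕ) : Bool :=
  Nat.beq (pw r s).1 1 && validB chevF4 (pw r s).2.1 (pw r s).2.2 &&
    isOne (oddR (pw r s).2.1 (pw r s).2.2) s && comB r (pw r s).2.1 && comB r (pw r s).2.2

/-- A commuting witness of the second kind, leaving `m`. -/
noncomputable def secondOK (r s m : ℕ) : Bool :=
  validB chevF4 (pw r s).2.1 (pw r s).2.2 &&
    isTwo (oddR (pw r s).2.1 (pw r s).2.2) s m && comB r (pw r s).2.1 && comB r (pw r s).2.2 &&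
    (Nat.beq r m || (comB r m && firstOK r m))

/-- The commuting witnesses. -/
noncomputable def pairOK : Bool :=
  allR (fun r => allR (fun s => !(comB r s) || Nat.beq r s || firstOK r s ||
    secondOK r s (fstR (oddR (pw r s).2.1 (pw r s).2.2)) ||
    secondOK r s (sndR (oddR (pw r s).2.1 (pw r s).2.2))) (upto 48)) (upto 48)

/-- The witnesses of the roots. -/
noncomputable def witOK : Bool :=
  allR (fun k => validB chevF4 (wit k).1 (wit k).2 && isOne (oddR (wit k).1 (wit k).2) k &&
    comB (wit k).2 k) (upto 48)

/-- Reflections map witnesses to presentations. -/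
noncomputable def imgOK : Bool :=
  allR (fun q => allR (fun k => validB chevF4 (rf q (wit k).1) (rf q (wit k).2) &&
    isOne (oddR (rf q (wit k).1) (rf q (wit k).2)) (rf q k)) (upto 48)) (upto 48)

/-- The descent of a pair with commutator one root. -/
noncomputable def oneStep (a b k : ℕ) : Bool :=
  (Nat.beq a (wit k).1 && Nat.beq b (wit k).2) ||
    (Nat.blt (stp a b).1 48 && comB k (stp a b).1 && comB k (fneg chevF4 (stp a b).1) &&
      validB chevF4 (rf (stp a b).1 a) (rf (stp a b).1 b) &&
      isOne (oddR (rf (stp a b).1 a) (rf (stp a b).1 b)) k &&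
      Nat.beq (rf (stp a b).1 (rf (stp a b).1 a)) a &&
      Nat.beq (rf (stp a b).1 (rf (stp a b).1 b)) b &&
      Nat.blt (stp (rf (stp a b).1 a) (rf (stp a b).1 b)).2 (stp a b).2)

/-- The base exceptional pair. -/
def baseA : ℕ := 0

/-- The base exceptional pair. -/
def baseB : ℕ := 29

/-- The roots of the base exceptional pair. -/
def baseK : ℕ := 3

/-- The roots of the base exceptional pair. -/
def baseM : ℕ := 6

/-- The descent of a pair with commutator two roots. -/
noncomputable def twoStep (a b k m : ℕ) : Bool :=
  comB k m &&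
  ((Nat.beq a baseA && Nat.beq b baseB && isTwo (oddR a b) baseK baseM) ||
    (Nat.beq a baseB && Nat.beq b baseA && isTwo (oddR a b) baseK baseM) ||
    (Nat.blt (stp a b).1 48 &&
      validB chevF4 (rf (stp a b).1 a) (rf (stp a b).1 b) &&
      comB (rf (stp a b).1 k) (rf (stp a b).1 m) &&
      isTwo (oddR (rf (stp a b).1 a) (rf (stp a b).1 b)) (rf (stp a b).1 k) (rf (stp a b).1 m) &&
      Nat.beq (rf (stp a b).1 (rf (stp a b).1 a)) a &&
      Nat.beq (rf (stp a b).1 (rf (stp a b).1 b)) b &&
      Nat.beq (rf (stp a b).1 (rf (stp a b).1 k)) k &&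
      Nat.beq (rf (stp a b).1 (rf (stp a b).1 m)) m &&
      Nat.blt (stp (rf (stp a b).1 a) (rf (stp a b).1 b)).2 (stp a b).2))

/-- All pairs. -/
noncomputable def stepOK : Bool :=
  allR (fun a => allR (fun b => !(validB chevF4 a b) ||
    isNil (oddR a b) ||
    (isOne (oddR a b) (fstR (oddR a b)) && oneStep a b (fstR (oddR a b))) ||
    (isTwo (oddR a b) (fstR (oddR a b)) (sndR (oddR a b)) &&
      twoStep a b (fstR (oddR a b)) (sndR (oddR a b)))) (upto 48)) (upto 48)

/-- The base pair. -/
noncomputable def baseOK : Bool :=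
  validB chevF4 baseA baseB && validB chevF4 baseB baseA &&
    isTwo (oddR baseA baseB) baseK baseM && comB baseK baseM && comB baseB baseK &&
    comB baseB baseM

theorem qw_ok : qwOK = true := by decide +kernel

theorem pair_ok : pairOK = true := by decide +kernel

theorem wit_ok : witOK = true := by decide +kernel

theorem img_ok : imgOK = true := by decide +kernel

theorem step_ok : stepOK = true := by decide +kernel

theorem base_ok : baseOK = true := by decide +kernel

end CfsgLib.StructC.F4Two
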