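import Cfsg.Agent.Lib.StructC.F4Two.CoverData
import Cfsg.Agent.Lib.StructC.F4Two.Tables
import Cfsg.Agent.Lib.StructC.OmegaSevenBase

/-!
Arithmetic of square matrices of size 52 over the field with three elements as pairs of bit masks,
and the checks that the 48 matrices satisfy the twisted relations.
-/

set_option autoImplicit false
set_option maxRecDepth 100000

namespace CfsgLib.StructC.F4Two

open CfsgLib.Chev
open CfsgLib.StructC.OmegaSeven (V add diff force force_eq)

/-- Negation of a pair of masks. -/
def negV (c : V) : V := CfsgLib.StructC.OmegaSeven.neg c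

/-- All ones in a row. -/
def rowMask : ℕ := 2 ^ 52 - 1

/-- `f v`, with the masks evaluated first. -/
noncomputable def forceV {α : Type} (v : V) (f : V → α) : α :=
  force v.1 fun a => force v.2 fun b => f (a, b)

/-- A row of a matrix. -/
noncomputable def rowAt (B : V) (k : ℕ) : V :=
  (Nat.land (Nat.shiftRight B.1 (Nat.mul 52 k)) rowMask,
    Nat.land (Nat.shiftRight B.2 (Nat.mul 52 k)) rowMask)

/-- A row times a matrix. -/
noncomputable def combo (B : V) (row : List ℕ) : V :=
  List.rec (0, 0) (fun e _ ih => forceV ih fun acc => forceV (rowAt B (Nat.div e 2)) fun r =>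
    bif Nat.beq (Nat.mod e 2) 1 then add (negV r) acc else add r acc) row

/-- Rows times a matrix. -/
noncomputable def mulS (A : List (List ℕ)) (B : V) : V :=
  List.rec (0, 0) (fun row _ ih => forceV ih fun acc => forceV (combo B row) fun r =>
    (Nat.lor r.1 (Nat.shiftLeft acc.1 52), Nat.lor r.2 (Nat.shiftLeft acc.2 52))) A

/-- The identity. -/
noncomputable def idP : V :=
  (Nat.rec (motive := fun _ => ℕ) 0 (fun i ih => Nat.lor ih (Nat.shiftLeft 1 (Nat.mul 53 i))) 52, 0)

/-- The rows of a matrix. -/
noncomputable def rowsR (r : ℕ) : List (List ℕ) := nth [] rowT r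

/-- The masks of a matrix. -/
noncomputable def packR (r : ℕ) : V := nth (0, 0) packT r

/-- Equal masks. -/
noncomputable def eqV (u v : V) : Bool := Nat.beq u.1 v.1 && Nat.beq u.2 v.2

/-- Shape, agreement of the two forms, and order two. -/
noncomputable def genOK : Bool :=
  allR (fun r => Nat.beq (rowsR r).length 52 &&
    allR (fun row => allR (fun e => Nat.blt e 104) row) (rowsR r) &&
    eqV (mulS (rowsR r) idP) (packR r) && eqV (mulS (rowsR r) (packR r)) idP) (upto 48)

/-- The exceptional relations. -/
noncomputable def twB (r s : ℕ) : Bool :=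
  !(isNil (oddR r s)) && !(isOne (oddR r s) (fstR (oddR r s)))

/-- The relation of one pair. -/
noncomputable def relOK (r s : ℕ) : Bool :=
  !(CfsgLib.KnownA.CExt.validB Cfsg.Lie.chevF4 r s) ||
    forceV (mulS (rowsR s) (packR r)) fun lhs =>
      forceV (mulS (rowsR r) (packR s)) fun rs =>
        eqV lhs (bif twB r s
          then negV (List.rec rs (fun k _ ih => mulS (rowsR k) ih) (oddR r s))
          else List.rec rs (fun k _ ih => mulS (rowsR k) ih) (oddR r s))

/-- The relations of the roots from `o` on. -/
noncomputable def relFrom (o n : ℕ) : Bool :=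
  allR (fun r => allR (fun s => relOK (o + r) s) (upto 48)) (upto n)

theorem gen_ok : genOK = true := by decide +kernel

end CfsgLib.StructC.F4Two
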