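import Cfsg.Agent.Lib.StructC.F4Two.CoverCheck

/-!
The twisted relations of the matrices of the roots from 36 to 47.
-/

set_option autoImplicit false
set_option maxRecDepth 100000

namespace CfsgLib.StructC.F4Two

theorem rel_36 : relFrom 36 12 = true := by decide +kernel

end CfsgLib.StructC.F4Two
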