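import Cfsg.Agent.Lib.StructC.F4Two.CoverRelA
import Cfsg.Agent.Lib.StructC.F4Two.CoverRelB
import Cfsg.Agent.Lib.StructC.F4Two.CoverRelC
import Cfsg.Agent.Lib.StructC.F4Two.CoverRelD
import Cfsg.Agent.Lib.StructC.F4Two.Bound

/-!
The twisted presentation of the double cover of `F4` over the field with two elements and its
representation of dimension 52 over the field with three elements.
-/

set_option autoImplicit false
set_option maxRecDepth 100000

namespace CfsgLib.StructC.F4Two

open Cfsg.Lie CfsgLib.Chev CfsgLib.KnownA.CExt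
open CfsgLib.StructC.OmegaSeven (V add diff force force_eq dig dig_add dig_neg bb bb_eq)

theorem forceV_eq {α : Type} (v : V) (f : V → α) : forceV v f = f v := by
  rw [forceV, force_eq, force_eq]

theorem dig_eq_zero {v : V} {i : ℕ} (h : dig v i = 0) :
    v.1.testBit i = false ∧ v.2.testBit i = false := by
  revert h
  simp only [dig]
  cases v.1.testBit i <;> cases v.2.testBit i <;> simp <;> decide

theorem dig_rowAt (B : V) (k j : ℕ) :
    dig (rowAt B k) j = if j < 52 then dig B (52 * k + j) else 0 := by
  have h : ∀ n : ℕ, (Nat.land (Nat.shiftRight n (Nat.mul 52 k)) rowMask).testBit j =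
      (n.testBit (52 * k + j) && decide (j < 52)) := fun n => by
    show ((n >>> (52 * k)) &&& (2 ^ 52 - 1)).testBit j = _
    rw [Nat.testBit_and, Nat.testBit_shiftRight, Nat.testBit_two_pow_sub_one]
  simp only [dig, rowAt, h]
  by_cases hj : j < 52 <;> simp [hj]

/-- The value of an entry code. -/
def sg (e : ℕ) : ZMod 3 := if e % 2 = 1 then -1 else 1

theorem two_mul_eq (x : ZMod 3) : 2 * x = -x := by revert x; decide

theorem combo_cons (B : V) (e : ℕ) (row : List ℕ) : combo B (e :: row) =
    if e % 2 = 1 then add (negV (rowAt B (e / 2))) (combo B row)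
    else add (rowAt B (e / 2)) (combo B row) := by
  show forceV (combo B row) (fun acc => forceV (rowAt B (Nat.div e 2)) fun r =>
    bif Nat.beq (Nat.mod e 2) 1 then add (negV r) acc else add r acc) = _
  rw [forceV_eq, forceV_eq]
  show (bif Nat.beq (e % 2) 1 then _ else _) = _
  rcases Nat.mod_two_eq_zero_or_one e with h | h <;> simp [h] <;> rfl

theorem dig_combo (B : V) : ∀ (row : List ℕ) (j : ℕ), dig (combo B row) j =
    if j < 52 then (row.map fun e => sg e * dig B (52 * (e / 2) + j)).sum else 0
  | [], j => by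
    show dig (0, 0) j = _
    simp [dig]
  | e :: row, j => by
    rw [combo_cons, List.map_cons, List.sum_cons]
    by_cases h : e % 2 = 1
    · rw [if_pos h, dig_add, negV, dig_neg, dig_rowAt, dig_combo B row j, sg, if_pos h]
      by_cases hj : j < 52 <;> simp [hj, two_mul_eq]
    · rw [if_neg h, dig_add, dig_rowAt, dig_combo B row j, sg, if_neg h]
      by_cases hj : j < 52 <;> simp [hj]

theorem dig_mulS (B : V) : ∀ (A : List (List ℕ)) (i j : ℕ), j < 52 →
    dig (mulS A B) (52 * i + j) = ((A.getD i []).map fun e => sg e * dig B (52 * (e / 2) + j)).sum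
  | [], i, j, _ => by
    show dig (0, 0) _ = _
    simp [dig]
  | row :: A, i, j, hj => by
    have hdef : mulS (row :: A) B = (Nat.lor (combo B row).1 (Nat.shiftLeft (mulS A B).1 52),
        Nat.lor (combo B row).2 (Nat.shiftLeft (mulS A B).2 52)) := by
      show forceV (mulS A B) (fun acc => forceV (combo B row) fun r =>
        (Nat.lor r.1 (Nat.shiftLeft acc.1 52), Nat.lor r.2 (Nat.shiftLeft acc.2 52))) = _
      rw [forceV_eq, forceV_eq]
    have hb : ∀ (a c n : ℕ), (Nat.lor a (Nat.shiftLeft c 52)).testBit n =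
        (a.testBit n || (decide (52 ≤ n) && c.testBit (n - 52))) := fun a c n => by
      show (a ||| (c <<< 52)).testBit n = _
      rw [Nat.testBit_or, Nat.testBit_shiftLeft]
    rw [hdef]
    rcases i with _ | i
    · rw [List.getD_cons_zero, show 52 * 0 + j = j by omega]
      have h := dig_combo B row j
      rw [if_pos hj] at h
      rw [← h]
      simp only [dig, hb]
      simp [show ¬ 52 ≤ j by omega]
    · rw [List.getD_cons_succ, ← dig_mulS B A i j hj]
      have h := dig_combo B row (52 * (i + 1) + j)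
      rw [if_neg (by omega)] at h
      obtain ⟨h1, h2⟩ := dig_eq_zero h
      simp only [dig, hb, h1, h2, show 52 ≤ 52 * (i + 1) + j by omega, decide_true, Bool.true_and,
        Bool.false_or, show 52 * (i + 1) + j - 52 = 52 * i + j by omega]

/-- The matrix of a pair of masks. -/
def mat (B : V) : Matrix (Fin 52) (Fin 52) (ZMod 3) :=
  Matrix.of fun i j => dig B (52 * i.val + j.val)

/-- The matrix of a list of rows. -/
def matS (A : List (List ℕ)) : Matrix (Fin 52) (Fin 52) (ZMod 3) :=
  Matrix.of fun i k => ((A.getD i.val []).map fun e => if e / 2 = k.val then sg e else 0).sum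

theorem mat_mulS (A : List (List ℕ)) (hA : ∀ i, ∀ e ∈ A.getD i [], e < 104) (B : V) :
    mat (mulS A B) = matS A * mat B := by
  ext i j
  rw [Matrix.mul_apply]
  show dig (mulS A B) (52 * i.val + j.val) = ∑ k : Fin 52,
    ((A.getD i.val []).map fun e => if e / 2 = k.val then sg e else 0).sum *
      dig B (52 * k.val + j.val)
  rw [dig_mulS B A i j j.isLt]
  have hrow := hA i.val
  revert hrow
  generalize A.getD i.val [] = row
  intro hrow
  induction row with
  | nil => simp
  | cons e row ih =>
    have he : e / 2 < 52 := by have := hrow e List.mem_cons_self; omega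
    simp only [List.map_cons, List.sum_cons, add_mul, Finset.sum_add_distrib]
    rw [ih fun x hx => hrow x (List.mem_cons_of_mem _ hx)]
    have hone : ∑ k : Fin 52, (if e / 2 = k.val then sg e else 0) * dig B (52 * k.val + j.val) =
        sg e * dig B (52 * (e / 2) + j.val) := by
      rw [Fintype.sum_eq_single (⟨e / 2, he⟩ : Fin 52) fun k hk => by
        rw [if_neg fun h => hk (Fin.ext h.symm), zero_mul]]
      exact congrArg (· * dig B (52 * (e / 2) + j.val)) (if_pos rfl)
    exact congrArg₂ (· + ·) hone.symm rfl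

theorem mat_negV (v : V) : mat (negV v) = - mat v := by
  ext i j
  show dig (CfsgLib.StructC.OmegaSeven.neg v) _ = - dig v _
  rw [dig_neg, two_mul_eq]

/-- The entries of the identity. -/
noncomputable def idOK : Bool :=
  forceV idP fun I => allR (fun i => allR (fun j =>
    (bif Nat.beq i j then bb I.1 (Nat.add (Nat.mul 52 i) j)
      else !(bb I.1 (Nat.add (Nat.mul 52 i) j))) &&
    !(bb I.2 (Nat.add (Nat.mul 52 i) j))) (upto 52)) (upto 52)

theorem id_ok : idOK = true := by decide +kernel

theorem mat_idP : mat idP = 1 := by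
  have h := id_ok
  rw [idOK, forceV_eq] at h
  ext i j
  have h' := allR_upto (allR_upto h i.isLt) j.isLt
  simp only [Bool.and_eq_true, Bool.not_eq_true', bb_eq] at h'
  show dig idP (52 * i.val + j.val) = _
  obtain ⟨h1, h2⟩ := h'
  rw [Matrix.one_apply]
  by_cases e : i = j
  · subst e
    rw [show Nat.beq i.val i.val = true from Nat.beq_refl _, cond_true] at h1
    have h1' : idP.1.testBit (52 * i.val + i.val) = true := h1
    simp [dig, h1']
  · have hne : Nat.beq i.val j.val = false := by
      rw [← Bool.not_eq_true]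
      exact fun hb => e (Fin.ext (Nat.eq_of_beq_eq_true hb))
    rw [hne, cond_false, Bool.not_eq_true'] at h1
    have h1' : idP.1.testBit (52 * i.val + j.val) = false := h1
    have h2' : idP.2.testBit (52 * i.val + j.val) = false := h2
    simp [dig, h1', h2', e]

theorem eqV_spec {u v : V} (h : eqV u v = true) : u = v := by
  simp only [eqV, Bool.and_eq_true] at h
  exact Prod.ext (Nat.eq_of_beq_eq_true h.1) (Nat.eq_of_beq_eq_true h.2)

/-- The matrix of a root. -/
noncomputable def rootMat (r : ℕ) : Matrix (Fin 52) (Fin 52) (ZMod 3) := mat (packR r)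

theorem gen_spec {r : ℕ} (hr : r < 48) :
    (∀ i, ∀ e ∈ (rowsR r).getD i [], e < 104) ∧ matS (rowsR r) = rootMat r ∧
      rootMat r * rootMat r = 1 := by
  have h := allR_upto gen_ok hr
  simp only [Bool.and_eq_true] at h
  obtain ⟨⟨⟨hlen, hent⟩, hpack⟩, hsq⟩ := h
  have hb : ∀ i, ∀ e ∈ (rowsR r).getD i [], e < 104 := by
    intro i e he
    by_cases hi : i < (rowsR r).length
    · rw [List.getD_eq_getElem _ _ hi] at he
      exact Nat.blt_eq.mp (allR_true (allR_true hent (List.getElem_mem hi)) he)
    · rw [List.getD_eq_default _ _ (by omega)] at he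
      simp at he
  have hm : matS (rowsR r) = rootMat r := by
    have h1 := congrArg mat (eqV_spec hpack)
    rw [mat_mulS _ hb, mat_idP, mul_one] at h1
    exact h1
  refine ⟨hb, hm, ?_⟩
  have h1 := congrArg mat (eqV_spec hsq)
  rw [mat_mulS _ hb, mat_idP, hm] at h1
  exact h1

theorem mulS_root {r : ℕ} (hr : r < 48) (B : V) : mat (mulS (rowsR r) B) = rootMat r * mat B := by
  rw [mat_mulS _ (gen_spec hr).1, (gen_spec hr).2.1]

theorem relOK_of {r s : ℕ} (hr : r < 48) (hs : s < 48) : relOK r s = true := by
  rcases Nat.lt_or_ge r 12 with h | h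
  · simpa using allR_upto (allR_upto rel_0 h) hs
  rcases Nat.lt_or_ge r 24 with h' | h'
  · have := allR_upto (allR_upto rel_12 (k := r - 12) (by omega)) hs
    rwa [show 12 + (r - 12) = r by omega] at this
  rcases Nat.lt_or_ge r 36 with h'' | h''
  · have := allR_upto (allR_upto rel_24 (k := r - 24) (by omega)) hs
    rwa [show 24 + (r - 24) = r by omega] at this
  · have := allR_upto (allR_upto rel_36 (k := r - 36) (by omega)) hs
    rwa [show 36 + (r - 36) = r by omega] at this

/-- Roots in a list of terms are roots. -/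
theorem oddR_lt {r s k : ℕ} (hr : r < 48) (hs : s < 48) (h : k ∈ oddR r s) : k < 48 := by
  have key : ∀ T : List (ℕ × ℤ × ℕ × ℕ), k ∈ (List.rec (motive := fun _ => List ℕ) []
      (fun c _ ih => bif oddZ c.2.1 then c.1 :: ih else ih) T) → ∃ c ∈ T, c.1 = k := by
    intro T
    induction T with
    | nil => intro h; simp at h
    | cons c T ihT =>
      intro h
      change k ∈ (bif oddZ c.2.1 then c.1 :: _ else _) at h
      cases hz : oddZ c.2.1 <;> rw [hz] at h
      · obtain ⟨d, hd, e⟩ := ihT h
        exact ⟨d, List.mem_cons_of_mem _ hd, e⟩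
      · rcases List.mem_cons.1 h with h | h
        · exact ⟨c, List.mem_cons_self, h.symm⟩
        · obtain ⟨d, hd, e⟩ := ihT h
          exact ⟨d, List.mem_cons_of_mem _ hd, e⟩
  have hmem := h
  rw [oddR, goodF4.fterms_eq hr hs] at hmem
  obtain ⟨c, hc, rfl⟩ := key _ hmem
  exact (goodF4.commTerms_co (hasComm_of_mem (by simp)) hr hs c hc).1

theorem fold_root : ∀ (L : List ℕ), (∀ k ∈ L, k < 48) → ∀ B : V,
    mat (List.rec (motive := fun _ => V) B (fun k _ ih => mulS (rowsR k) ih) L) =
      (L.map rootMat).prod * mat B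
  | [], _, B => by simp
  | k :: L, h, B => by
    show mat (mulS (rowsR k) _) = _
    rw [mulS_root (h k List.mem_cons_self),
      fold_root L (fun x hx => h x (List.mem_cons_of_mem _ hx)) B, List.map_cons, List.prod_cons,
      mul_assoc]

theorem root_rel {r s : ℕ} (hr : r < 48) (hs : s < 48) (hv : validB chevF4 r s = true) :
    rootMat s * rootMat r * rootMat s * rootMat r =
      (if twB r s = true then -1 else 1) * ((oddR r s).map rootMat).prod := by
  have h := relOK_of hr hs
  rw [relOK, forceV_eq, forceV_eq] at h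
  simp only [hv, Bool.not_true, Bool.false_or] at h
  have h1 := congrArg mat (eqV_spec h)
  rw [mulS_root hs] at h1
  have hL : ∀ k ∈ oddR r s, k < 48 := fun k hk => oddR_lt hr hs hk
  have hinv : rootMat r * rootMat s * (rootMat s * rootMat r) = 1 := by
    rw [mul_assoc, ← mul_assoc (rootMat s), (gen_spec hs).2.2, one_mul, (gen_spec hr).2.2]
  cases ht : twB r s <;> rw [ht] at h1
  · rw [cond_false, fold_root _ hL, mulS_root hr] at h1
    change rootMat s * rootMat r = _ * (rootMat r * rootMat s) at h1
    rw [if_neg Bool.false_ne_true, one_mul, mul_assoc (rootMat s * rootMat r)]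
    nth_rewrite 1 [h1]
    rw [mul_assoc, hinv, mul_one]
  · rw [cond_true, mat_negV, fold_root _ hL, mulS_root hr] at h1
    change rootMat s * rootMat r = -(_ * (rootMat r * rootMat s)) at h1
    rw [if_pos rfl, mul_assoc (rootMat s * rootMat r)]
    nth_rewrite 1 [h1]
    rw [neg_mul, mul_assoc, hinv, mul_one, neg_one_mul]

/-! ### The twisted presentation -/

/-- A generator. -/
def gy (r : ℕ) : FreeGroup (Option (Fin 48)) :=
  if h : r < 48 then FreeGroup.of (some ⟨r, h⟩) else 1

/-- The central generator. -/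
def gz : FreeGroup (Option (Fin 48)) := FreeGroup.of none

/-- The twisted relations. -/
def twRels : Set (FreeGroup (Option (Fin 48))) :=
  {x | x = gz * gz ∨ (∃ r, r < 48 ∧ x = gy r * gy r) ∨
    (∃ r, r < 48 ∧ x = gz * gy r * (gy r * gz)⁻¹) ∨
    ∃ r s, validB chevF4 r s = true ∧ x = gy s * gy r * gy s * gy r *
      ((if twB r s = true then gz else 1) * ((oddR r s).map gy).prod)⁻¹}

/-- The double cover. -/
abbrev TW : Type := PresentedGroup twRels

/-- A generator of the cover. -/
def py (r : ℕ) : TW := PresentedGroup.mk twRels (gy r)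

/-- The central involution of the cover. -/
def pz : TW := PresentedGroup.mk twRels gz

theorem pz_sq : pz * pz = 1 := by
  rw [pz, ← map_mul]
  exact PresentedGroup.one_of_mem (Or.inl rfl)

theorem py_sq {r : ℕ} (hr : r < 48) : py r * py r = 1 := by
  rw [py, ← map_mul]
  exact PresentedGroup.one_of_mem (Or.inr (Or.inl ⟨r, hr, rfl⟩))

theorem py_rel {r s : ℕ} (hv : validB chevF4 r s = true) :
    py s * py r * py s * py r =
      (if twB r s = true then pz else 1) * ((oddR r s).map py).prod := by
  have h := PresentedGroup.one_of_mem (rels := twRels) (Or.inr (Or.inr (Or.inr ⟨r, s, hv, rfl⟩)))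
  rw [map_mul, map_inv, mul_inv_eq_one, map_mul, map_mul, map_mul, map_mul, map_list_prod,
    List.map_map, apply_ite (PresentedGroup.mk twRels), map_one] at h
  exact h

theorem closure_top : Subgroup.closure ({pz} ∪ {x | ∃ r < 48, x = py r}) = (⊤ : Subgroup TW) := by
  rw [eq_top_iff, ← PresentedGroup.closure_range_of, Subgroup.closure_le]
  rintro _ ⟨x, rfl⟩
  rcases x with _ | r
  · exact Subgroup.subset_closure (Or.inl rfl)
  · refine Subgroup.subset_closure (Or.inr ⟨r, r.isLt, ?_⟩)
    rw [py, gy, dif_pos r.isLt]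
    rfl

theorem pz_central : pz ∈ Subgroup.center TW := by
  rw [← Subgroup.centralizer_univ, ← Subgroup.coe_top, ← closure_top, Subgroup.centralizer_closure,
    Subgroup.mem_centralizer_iff]
  rintro _ (rfl | ⟨r, hr, rfl⟩)
  · rfl
  · have h := PresentedGroup.one_of_mem (rels := twRels)
      (Or.inr (Or.inr (Or.inl ⟨r, hr, rfl⟩)))
    rw [map_mul, map_inv, mul_inv_eq_one, map_mul, map_mul] at h
    exact h.symm

/-- A root matrix as a unit. -/
noncomputable def rootUnit (r : ℕ) : (Matrix (Fin 52) (Fin 52) (ZMod 3))ˣ :=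
  if h : r < 48 then ⟨rootMat r, rootMat r, (gen_spec h).2.2, (gen_spec h).2.2⟩ else 1

/-- The images of the generators. -/
noncomputable def repMap : Option (Fin 48) → (Matrix (Fin 52) (Fin 52) (ZMod 3))ˣ
  | none => -1
  | some r => rootUnit r.val

theorem lift_gy (r : ℕ) : FreeGroup.lift repMap (gy r) = rootUnit r := by
  by_cases h : r < 48
  · rw [gy, dif_pos h, FreeGroup.lift_apply_of]
    rfl
  · rw [gy, dif_neg h, map_one, rootUnit, dif_neg h]

theorem val_rootUnit {r : ℕ} (hr : r < 48) :
    (rootUnit r : Matrix (Fin 52) (Fin 52) (ZMod 3)) = rootMat r := by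
  rw [rootUnit, dif_pos hr]

theorem rep_rels : ∀ x ∈ twRels, FreeGroup.lift repMap x = 1 := by
  rintro x (rfl | ⟨r, hr, rfl⟩ | ⟨r, hr, rfl⟩ | ⟨r, s, hv, rfl⟩)
  · rw [map_mul, gz, FreeGroup.lift_apply_of]
    exact neg_mul_neg (1 : (Matrix (Fin 52) (Fin 52) (ZMod 3))ˣ) 1 |>.trans (one_mul 1)
  · refine Units.ext ?_
    rw [map_mul, lift_gy, Units.val_mul, val_rootUnit hr, (gen_spec hr).2.2, Units.val_one]
  · rw [map_mul, map_inv, mul_inv_eq_one, map_mul, map_mul, lift_gy, gz, FreeGroup.lift_apply_of]
    show (-1 : (Matrix (Fin 52) (Fin 52) (ZMod 3))ˣ) * _ = _ * -1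
    rw [neg_one_mul, mul_neg_one]
  · obtain ⟨hr, hs, -, -⟩ := valid_spec goodF4 hv
    rw [map_mul, map_inv, mul_inv_eq_one]
    refine Units.ext ?_
    simp only [map_mul, lift_gy, Units.val_mul, val_rootUnit hr, val_rootUnit hs]
    rw [root_rel hr hs hv]
    congr 1
    · split_ifs
      · rw [gz, FreeGroup.lift_apply_of]
        rfl
      · rw [map_one, Units.val_one]
    · rw [map_list_prod, List.map_map]
      show _ = Units.coeHom _ (List.map _ _).prod
      rw [map_list_prod, List.map_map]
      refine congrArg List.prod (List.map_congr_left fun k hk => ?_)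
      show rootMat k = (Units.val (FreeGroup.lift repMap (gy k)))
      rw [lift_gy, val_rootUnit (oddR_lt hr hs hk)]

theorem pz_ne_one : pz ≠ 1 := by
  intro h
  have h1 := congrArg (PresentedGroup.toGroup rep_rels) h
  rw [map_one, pz] at h1
  have h2 : FreeGroup.lift repMap gz = 1 := h1
  rw [gz, FreeGroup.lift_apply_of] at h2
  have h3 : (-1 : Matrix (Fin 52) (Fin 52) (ZMod 3)) = 1 := by
    have e : ((-1 : (Matrix (Fin 52) (Fin 52) (ZMod 3))ˣ) : Matrix (Fin 52) (Fin 52) (ZMod 3)) =
        ((1 : (Matrix (Fin 52) (Fin 52) (ZMod 3))ˣ) : Matrix (Fin 52) (Fin 52) (ZMod 3)) :=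
      congrArg Units.val h2
    rwa [Units.val_neg, Units.val_one] at e
  obtain ⟨i⟩ : Nonempty (Fin 52) := ⟨⟨0, Nat.succ_pos 51⟩⟩
  have h4 := Matrix.ext_iff.2 h3 i i
  rw [Matrix.neg_apply, Matrix.one_apply_eq] at h4
  exact absurd h4 (by decide)

theorem card_zpowers_pz : Nat.card (Subgroup.zpowers pz) = 2 := by
  rw [Nat.card_zpowers, orderOf_eq_prime_iff]
  exact ⟨by rw [pow_two, pz_sq], pz_ne_one⟩

end CfsgLib.StructC.F4Two
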