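import Mathlib

/-!
Certificates for the central extensions of `F4` over the field with two elements: presentations of
roots as commutators, reflections joining them, and witnesses for commuting lifts.
-/

set_option maxRecDepth 100000

namespace CfsgLib.StructC.F4Two

/-- A root as a word applied to a fundamental root. -/
def qwT : List (List ℕ × ℕ) :=
  [([3, 2, 1, 2, 3, 0, 1, 2], 2), ([2, 1, 2, 3, 0, 1, 2], 2), ([1, 2, 3, 0, 1, 2], 2), ([0, 1, 2, 3, 1, 2, 1, 0], 0), ([2, 3, 0, 1, 2], 2), ([3, 0, 1, 2], 2), ([0, 1, 2], 2), ([1, 2, 3, 1, 2, 1, 0], 0), ([2, 3, 1, 2, 1, 0], 0), ([3, 1, 2, 1, 0], 0), ([1, 2, 1, 0], 0), ([3, 2, 1, 0], 0), ([2, 1, 0], 0), ([1, 0], 0), ([0], 0), ([2, 3, 1, 2], 2), ([3, 1, 2], 2), ([1, 2], 2), ([3, 2, 1], 1), ([2, 1], 1), ([1], 1), ([3, 2], 2), ([2], 2), ([3], 3), ([],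 3), ([], 2), ([3], 2), ([], 1), ([2], 1), ([3, 2], 1), ([1], 2), ([3, 1], 2), ([2, 3, 1], 2), ([], 0), ([1], 0), ([2, 1], 0), ([3, 2, 1], 0), ([1, 2, 1], 0), ([3, 1, 2, 1], 0), ([2, 3, 1, 2, 1], 0), ([1, 2, 3, 1, 2, 1], 0), ([0, 1], 2), ([3, 0, 1], 2), ([2, 3, 0, 1], 2), ([0, 1, 2, 3, 1, 2, 1], 0), ([1, 2, 3, 0, 1], 2), ([2, 1, 2, 3, 0, 1], 2), ([3, 2, 1, 2, 3, 0, 1], 2)]

/-- Each root as a commutator of two roots. -/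
def witT : List (ℕ × ℕ) :=
  [(1, 23), (0, 24), (0, 26), (7, 14), (0, 31), (0, 32), (1, 32), (3, 33), (3, 34), (3, 35), (3, 36), (3, 37), (3, 38), (3, 39), (3, 40), (0, 42), (0, 43), (1, 43), (7, 37), (7, 38), (7, 39), (0, 45), (1, 45), (0, 46), (1, 47), (2, 46), (2, 47), (8, 40), (9, 40), (10, 40), (4, 46), (4, 47), (5, 47), (7, 44), (8, 44), (9, 44), (10, 44), (11, 44), (12, 44), (13, 44), (14, 44), (15, 46), (15, 47), (16, 47), (33, 40), (21, 47), (23, 47), (24, 46)]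

/-- Commuting witnesses: kind and two roots. -/
def pairT : List (List (ℕ × ℕ × ℕ)) :=
  [[(0, 0, 0), (1, 2, 22), (1, 1, 25), (1, 7, 14), (1, 1, 30), (1, 2, 30), (3, 10, 30), (1, 3, 33), (1, 3, 34), (1, 3, 35), (1, 12, 20), (1, 3, 37), (1, 10, 27), (1, 10, 28), (1, 12, 28), (1, 1, 41), (1, 2, 41), (3, 6, 33), (1, 7, 37), (1, 10, 34), (1, 10, 35), (1, 4, 41), (3, 6, 34), (1, 5, 41), (0, 0, 0), (3, 6, 35), (0, 0, 0), (1, 12, 37), (1, 13, 37), (0, 0, 0), (3, 6, 37), (0, 0, 0), (0, 0, 0), (1, 19, 35), (1, 19, 37), (1, 20, 37), (0, 0, 0), (1, 27, 35), (0, 0, 0), (0, 0, 0), (0, 0, 0), (3, 17, 37), (0, 0, 0), (0, 0, 0), (0, 0, 0), (0, 0, 0), (0, 0, 0), (0, 0, 0)],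
   [(1, 2, 21), (0, 0, 0), (1, 0, 26), (1, 7, 14), (1, 0, 31), (3, 9, 31), (1, 2, 31), (1, 3, 33), (1, 3, 34), (1, 11, 20), (1, 3, 36), (1, 9, 27), (1, 3, 38), (1, 9, 29), (1, 11, 29), (1, 0, 42), (3, 5, 33), (1, 2, 42), (1, 9, 34), (1, 7, 38), (1, 9, 36), (3, 5, 34), (1, 4, 42), (0, 0, 0), (1, 6, 42), (0, 0, 0), (3, 5, 36), (1, 11, 38), (0, 0, 0), (1, 13, 38), (0, 0, 0), (3, 5, 38), (0, 0, 0), (1, 18, 36), (1, 18, 38), (0, 0, 0), (1, 20, 38), (0, 0, 0), (1, 27, 36), (0, 0, 0), (0, 0, 0), (0, 0, 0), (3, 16, 38), (0, 0, 0), (0, 0, 0), (0, 0, 0), (0, 0, 0), (0, 0, 0)],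
   [(1, 1, 23), (1, 0, 24), (0, 0, 0), (1, 7, 14), (3, 8, 32), (1, 0, 32), (1, 1, 32), (1, 3, 33), (1, 11, 19), (1, 3, 35), (1, 3, 36), (1, 8, 28), (1, 8, 29), (1, 3, 39), (1, 11, 29), (3, 4, 33), (1, 0, 43), (1, 1, 43), (1, 8, 35), (1, 8, 36), (1, 7, 39), (0, 0, 0), (0, 0, 0), (3, 4, 35), (3, 4, 36), (1, 5, 43), (1, 6, 43), (0, 0, 0), (1, 11, 39), (1, 12, 39), (0, 0, 0), (0, 0, 0), (3, 4, 39), (1, 18, 36), (0, 0, 0), (1, 18, 39), (1, 19, 39), (0, 0, 0), (0, 0, 0), (1, 28, 36), (0, 0, 0), (0, 0, 0), (0, 0, 0), (3, 15, 39), (0, 0, 0), (0, 0, 0), (0, 0, 0), (0, 0, 0)],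
   [(1, 1, 23), (1, 0, 24), (1, 0, 26), (0, 0, 0), (1, 0, 31), (1, 0, 32), (1, 1, 32), (1, 8, 20), (1, 7, 27), (1, 7, 28), (1, 7, 29), (1, 8, 28), (1, 8, 29), (1, 9, 29), (1, 11, 29), (1, 16, 22), (1, 15, 25), (1, 15, 26), (3, 15, 28), (3, 15, 29), (3, 16, 29), (1, 15, 30), (1, 15, 31), (1, 16, 30), (1, 17, 31), (1, 16, 32), (1, 17, 32), (3, 18, 31), (3, 18, 32), (3, 19, 32), (1, 21, 32), (1, 22, 32), (1, 25, 31), (0, 0, 0), (0, 0, 0), (0, 0, 0), (0, 0, 0), (0, 0, 0), (0, 0, 0), (0, 0, 0), (0, 0, 0), (0, 0, 0), (0, 0, 0), (0, 0, 0), (0, 0, 0), (0, 0, 0), (0, 0, 0), (0, 0, 0)],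
   [(1, 1, 23), (1, 0, 24), (3, 7, 32), (1, 7, 14), (0, 0, 0), (1, 0, 32), (1, 1, 32), (1, 9, 19), (1, 3, 34), (1, 7, 28), (1, 7, 29), (1, 3, 37), (1, 3, 38), (1, 9, 29), (1, 3, 40), (3, 2, 34), (0, 0, 0), (0, 0, 0), (1, 7, 37), (1, 7, 38), (0, 0, 0), (1, 0, 45), (1, 1, 45), (3, 2, 37), (3, 2, 38), (0, 0, 0), (0, 0, 0), (1, 8, 40), (1, 9, 40), (1, 10, 40), (1, 5, 45), (1, 6, 45), (3, 2, 40), (0, 0, 0), (1, 18, 38), (0, 0, 0), (0, 0, 0), (1, 18, 40), (1, 19, 40), (0, 0, 0), (1, 28, 38), (0, 0, 0), (0, 0, 0), (0, 0, 0), (0, 0, 0), (3, 15, 40), (0, 0, 0), (0, 0, 0)],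
   [(1, 1, 23), (3, 7, 31), (1, 0, 26), (1, 7, 14), (1, 0, 31), (0, 0, 0), (1, 1, 32), (1, 8, 20), (1, 7, 27), (1, 3, 35), (1, 7, 29), (1, 3, 37), (1, 8, 29), (1, 3, 39), (1, 3, 40), (0, 0, 0), (3, 1, 35), (0, 0, 0), (1, 7, 37), (0, 0, 0), (1, 7, 39), (3, 1, 37), (0, 0, 0), (1, 0, 46), (0, 0, 0), (1, 2, 46), (3, 1, 39), (1, 8, 40), (1, 9, 40), (1, 10, 40), (1, 4, 46), (3, 1, 40), (1, 6, 46), (0, 0, 0), (0, 0, 0), (1, 18, 39), (0, 0, 0), (1, 18, 40), (0, 0, 0), (1, 20, 40), (1, 27, 39), (0, 0, 0), (0, 0, 0), (0, 0, 0), (0, 0, 0), (0, 0, 0), (3, 16, 40), (0, 0, 0)],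
   [(3, 7, 30), (1, 0, 24), (1, 0, 26), (1, 7, 14), (1, 0, 31), (1, 0, 32), (0, 0, 0), (1, 8, 20), (1, 7, 27), (1, 7, 28), (1, 3, 36), (1, 8, 28), (1, 3, 38), (1, 3, 39), (1, 3, 40), (0, 0, 0), (0, 0, 0), (3, 0, 36), (0, 0, 0), (1, 7, 38), (1, 7, 39), (0, 0, 0), (3, 0, 38), (0, 0, 0), (1, 1, 47), (3, 0, 39), (1, 2, 47), (1, 8, 40), (1, 9, 40), (1, 10, 40), (3, 0, 40), (1, 4, 47), (1, 5, 47), (0, 0, 0), (0, 0, 0), (0, 0, 0), (1, 19, 39), (0, 0, 0), (1, 19, 40), (1, 20, 40), (1, 27, 39), (0, 0, 0), (0, 0, 0), (0, 0, 0), (0, 0, 0), (0, 0, 0), (0, 0, 0), (3, 17, 40)],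
   [(1, 1, 23), (1, 0, 24), (1, 0, 26), (1, 8, 13), (1, 5, 22), (1, 4, 25), (1, 4, 26), (0, 0, 0), (1, 3, 34), (1, 3, 35), (1, 3, 36), (3, 4, 35), (3, 4, 36), (3, 5, 36), (0, 0, 0), (1, 0, 42), (1, 0, 43), (1, 1, 43), (1, 8, 35), (1, 8, 36), (1, 9, 36), (1, 4, 41), (1, 4, 42), (1, 5, 41), (1, 6, 42), (1, 5, 43), (1, 6, 43), (0, 0, 0), (0, 0, 0), (0, 0, 0), (0, 0, 0), (0, 0, 0), (0, 0, 0), (1, 18, 36), (3, 11, 42), (3, 11, 43), (3, 12, 43), (0, 0, 0), (0, 0, 0), (0, 0, 0), (0, 0, 0), (1, 21, 43), (1, 22, 43), (1, 25, 42), (0, 0, 0), (0, 0, 0), (0, 0, 0), (0, 0, 0)],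
   [(1, 1, 23), (1, 0, 24), (1, 5, 17), (1, 7, 14), (1, 0, 31), (1, 2, 30), (1, 2, 31), (1, 3, 33), (0, 0, 0), (3, 2, 37), (3, 2, 38), (1, 3, 37), (1, 3, 38), (0, 0, 0), (3, 5, 38), (1, 0, 42), (1, 2, 41), (1, 2, 42), (1, 7, 37), (1, 7, 38), (0, 0, 0), (1, 0, 45), (1, 1, 45), (1, 5, 41), (1, 6, 42), (0, 0, 0), (0, 0, 0), (1, 11, 38), (0, 0, 0), (0, 0, 0), (1, 5, 45), (1, 6, 45), (0, 0, 0), (3, 9, 42), (1, 18, 38), (0, 0, 0), (0, 0, 0), (3, 9, 45), (3, 10, 45), (0, 0, 0), (0, 0, 0), (1, 16, 45), (1, 17, 45), (0, 0, 0), (0, 0, 0), (1, 30, 42), (0, 0, 0), (0, 0, 0)],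
   [(1, 1, 23), (1, 4, 17), (1, 0, 26), (1, 7, 14), (1, 1, 30), (1, 0, 32), (1, 1, 32), (1, 3, 33), (3, 1, 37), (0, 0, 0), (3, 1, 39), (1, 3, 37), (0, 0, 0), (1, 3, 39), (3, 4, 39), (1, 1, 41), (1, 0, 43), (1, 1, 43), (1, 7, 37), (0, 0, 0), (1, 7, 39), (1, 4, 41), (0, 0, 0), (1, 0, 46), (0, 0, 0), (1, 2, 46), (1, 6, 43), (0, 0, 0), (1, 11, 39), (0, 0, 0), (1, 4, 46), (0, 0, 0), (1, 6, 46), (3, 8, 43), (0, 0, 0), (1, 18, 39), (0, 0, 0), (3, 8, 46), (0, 0, 0), (3, 10, 46), (0, 0, 0), (1, 15, 46), (0, 0, 0), (1, 17, 46), (0, 0, 0), (0, 0, 0), (1, 30, 43), (0, 0, 0)],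
   [(1, 4, 16), (1, 0, 24), (1, 0, 26), (1, 7, 14), (1, 0, 31), (1, 0, 32), (1, 1, 32), (1, 3, 33), (3, 0, 38), (3, 0, 39), (0, 0, 0), (0, 0, 0), (1, 3, 38), (1, 3, 39), (3, 4, 39), (1, 0, 42), (1, 0, 43), (1, 1, 43), (0, 0, 0), (1, 7, 38), (1, 7, 39), (0, 0, 0), (1, 4, 42), (0, 0, 0), (1, 1, 47), (1, 5, 43), (1, 2, 47), (0, 0, 0), (0, 0, 0), (1, 12, 39), (0, 0, 0), (1, 4, 47), (1, 5, 47), (3, 8, 43), (0, 0, 0), (0, 0, 0), (1, 19, 39), (0, 0, 0), (3, 8, 47), (3, 9, 47), (0, 0, 0), (0, 0, 0), (1, 15, 47), (1, 16, 47), (0, 0, 0), (0, 0, 0), (0, 0, 0), (1, 31, 43)],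
   [(1, 1, 23), (1, 2, 22), (1, 1, 25), (1, 7, 14), (1, 0, 31), (1, 0, 32), (1, 1, 32), (3, 1, 35), (1, 3, 34), (1, 3, 35), (0, 0, 0), (0, 0, 0), (3, 1, 40), (3, 2, 40), (1, 3, 40), (1, 1, 41), (1, 2, 41), (0, 0, 0), (1, 7, 37), (0, 0, 0), (0, 0, 0), (1, 0, 45), (1, 1, 45), (1, 0, 46), (0, 0, 0), (1, 2, 46), (0, 0, 0), (1, 8, 40), (1, 9, 40), (0, 0, 0), (1, 4, 46), (1, 6, 45), (1, 6, 46), (0, 0, 0), (3, 7, 45), (3, 7, 46), (0, 0, 0), (1, 18, 40), (0, 0, 0), (0, 0, 0), (3, 12, 46), (1, 15, 46), (0, 0, 0), (0, 0, 0), (0, 0, 0), (1, 22, 46), (1, 25, 45), (0, 0, 0)],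
   [(1, 2, 21), (1, 0, 24), (1, 0, 26), (1, 7, 14), (1, 0, 31), (1, 0, 32), (1, 1, 32), (3, 0, 36), (1, 3, 34), (0, 0, 0), (1, 3, 36), (3, 0, 40), (0, 0, 0), (3, 2, 40), (1, 3, 40), (1, 0, 42), (0, 0, 0), (1, 2, 42), (0, 0, 0), (1, 7, 38), (0, 0, 0), (1, 0, 45), (1, 1, 45), (0, 0, 0), (1, 1, 47), (0, 0, 0), (1, 2, 47), (1, 8, 40), (0, 0, 0), (1, 10, 40), (1, 5, 45), (1, 4, 47), (1, 5, 47), (0, 0, 0), (3, 7, 45), (0, 0, 0), (3, 7, 47), (0, 0, 0), (1, 19, 40), (0, 0, 0), (3, 11, 47), (0, 0, 0), (1, 15, 47), (0, 0, 0), (0, 0, 0), (1, 21, 47), (0, 0, 0), (1, 26, 45)],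
   [(1, 1, 23), (1, 0, 24), (1, 0, 26), (1, 7, 14), (1, 0, 31), (1, 0, 32), (1, 1, 32), (3, 0, 36), (0, 0, 0), (1, 3, 35), (1, 3, 36), (3, 0, 40), (3, 1, 40), (0, 0, 0), (1, 3, 40), (0, 0, 0), (1, 0, 43), (1, 1, 43), (0, 0, 0), (0, 0, 0), (1, 7, 39), (0, 0, 0), (0, 0, 0), (1, 0, 46), (1, 1, 47), (1, 2, 46), (1, 2, 47), (0, 0, 0), (1, 9, 40), (1, 10, 40), (1, 4, 46), (1, 4, 47), (1, 5, 47), (0, 0, 0), (0, 0, 0), (3, 7, 46), (3, 7, 47), (0, 0, 0), (0, 0, 0), (1, 20, 40), (3, 11, 47), (0, 0, 0), (0, 0, 0), (1, 16, 47), (0, 0, 0), (0, 0, 0), (1, 23, 47), (1, 24, 46)],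
   [(1, 1, 23), (1, 0, 24), (1, 0, 26), (1, 8, 13), (1, 0, 31), (1, 0, 32), (1, 1, 32), (0, 0, 0), (3, 0, 38), (3, 0, 39), (3, 1, 39), (1, 3, 37), (1, 3, 38), (1, 3, 39), (0, 0, 0), (0, 0, 0), (0, 0, 0), (0, 0, 0), (0, 0, 0), (0, 0, 0), (0, 0, 0), (1, 0, 45), (1, 1, 45), (1, 0, 46), (1, 1, 47), (1, 2, 46), (1, 2, 47), (1, 8, 40), (1, 9, 40), (1, 10, 40), (1, 4, 46), (1, 4, 47), (1, 5, 47), (0, 0, 0), (0, 0, 0), (0, 0, 0), (0, 0, 0), (3, 8, 46), (3, 8, 47), (3, 9, 47), (1, 27, 39), (0, 0, 0), (0, 0, 0), (0, 0, 0), (0, 0, 0), (1, 21, 47), (1, 23, 47), (1, 24, 46)],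
   [(1, 1, 23), (1, 0, 24), (3, 3, 43), (1, 9, 12), (3, 2, 27), (0, 0, 0), (0, 0, 0), (1, 3, 33), (1, 3, 34), (1, 3, 35), (1, 3, 36), (1, 3, 37), (1, 3, 38), (0, 0, 0), (0, 0, 0), (0, 0, 0), (1, 0, 43), (1, 1, 43), (1, 7, 37), (1, 7, 38), (1, 9, 36), (1, 0, 45), (1, 1, 45), (3, 2, 37), (3, 2, 38), (0, 0, 0), (0, 0, 0), (1, 11, 38), (0, 0, 0), (0, 0, 0), (0, 0, 0), (0, 0, 0), (0, 0, 0), (1, 7, 44), (1, 8, 44), (1, 9, 44), (1, 10, 44), (1, 11, 44), (1, 12, 44), (0, 0, 0), (0, 0, 0), (1, 16, 45), (1, 17, 45), (3, 2, 44), (1, 35, 38), (3, 4, 44), (0, 0, 0), (0, 0, 0)],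
   [(1, 1, 23), (3, 3, 42), (1, 0, 26), (1, 8, 13), (0, 0, 0), (3, 1, 28), (0, 0, 0), (1, 3, 33), (1, 3, 34), (1, 3, 35), (1, 3, 36), (1, 3, 37), (0, 0, 0), (1, 3, 39), (0, 0, 0), (1, 0, 42), (0, 0, 0), (1, 1, 43), (1, 7, 37), (1, 8, 36), (1, 7, 39), (3, 1, 37), (0, 0, 0), (1, 0, 46), (0, 0, 0), (1, 2, 46), (3, 1, 39), (0, 0, 0), (1, 11, 39), (0, 0, 0), (0, 0, 0), (0, 0, 0), (0, 0, 0), (1, 7, 44), (1, 8, 44), (1, 9, 44), (1, 10, 44), (1, 11, 44), (0, 0, 0), (1, 13, 44), (0, 0, 0), (1, 15, 46), (3, 1, 44), (1, 17, 46), (1, 34, 39), (0, 0, 0), (3, 5, 44), (0, 0, 0)],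
   [(3, 3, 41), (1, 0, 24), (1, 0, 26), (1, 8, 13), (0, 0, 0), (0, 0, 0), (3, 0, 29), (1, 3, 33), (1, 3, 34), (1, 3, 35), (1, 3, 36), (0, 0, 0), (1, 3, 38), (1, 3, 39), (0, 0, 0), (1, 0, 42), (1, 0, 43), (0, 0, 0), (1, 8, 35), (1, 7, 38), (1, 7, 39), (0, 0, 0), (3, 0, 38), (0, 0, 0), (1, 1, 47), (3, 0, 39), (1, 2, 47), (0, 0, 0), (0, 0, 0), (1, 12, 39), (0, 0, 0), (0, 0, 0), (0, 0, 0), (1, 7, 44), (1, 8, 44), (1, 9, 44), (1, 10, 44), (0, 0, 0), (1, 12, 44), (1, 13, 44), (0, 0, 0), (3, 0, 44), (1, 15, 47), (1, 16, 47), (1, 34, 39), (0, 0, 0), (0, 0, 0), (3, 6, 44)],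
   [(1, 1, 23), (1, 2, 22), (1, 1, 25), (3, 1, 28), (1, 1, 30), (1, 2, 30), (0, 0, 0), (1, 3, 33), (1, 3, 34), (1, 3, 35), (0, 0, 0), (1, 3, 37), (0, 0, 0), (0, 0, 0), (0, 0, 0), (1, 0, 42), (1, 0, 43), (1, 1, 43), (0, 0, 0), (3, 1, 44), (3, 2, 44), (1, 0, 45), (1, 1, 45), (1, 0, 46), (0, 0, 0), (1, 2, 46), (0, 0, 0), (3, 3, 45), (3, 3, 46), (0, 0, 0), (1, 4, 46), (0, 0, 0), (0, 0, 0), (1, 7, 44), (1, 8, 44), (1, 9, 44), (0, 0, 0), (1, 11, 44), (0, 0, 0), (0, 0, 0), (0, 0, 0), (1, 15, 46), (1, 17, 45), (1, 17, 46), (3, 19, 46), (1, 22, 46), (1, 25, 45), (0, 0, 0)],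
   [(1, 2, 21), (1, 0, 24), (1, 0, 26), (3, 0, 29), (1, 0, 31), (0, 0, 0), (1, 2, 31), (1, 3, 33), (1, 3, 34), (0, 0, 0), (1, 3, 36), (0, 0, 0), (1, 3, 38), (0, 0, 0), (0, 0, 0), (1, 0, 42), (1, 0, 43), (1, 1, 43), (3, 0, 44), (0, 0, 0), (3, 2, 44), (1, 0, 45), (1, 1, 45), (0, 0, 0), (1, 1, 47), (0, 0, 0), (1, 2, 47), (3, 3, 45), (0, 0, 0), (3, 3, 47), (0, 0, 0), (1, 4, 47), (0, 0, 0), (1, 7, 44), (1, 8, 44), (0, 0, 0), (1, 10, 44), (0, 0, 0), (1, 12, 44), (0, 0, 0), (0, 0, 0), (1, 16, 45), (1, 15, 47), (1, 16, 47), (3, 18, 47), (1, 21, 47), (0, 0, 0), (1, 26, 45)],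
   [(1, 1, 23), (1, 0, 24), (1, 0, 26), (3, 0, 29), (0, 0, 0), (1, 0, 32), (1, 1, 32), (1, 3, 33), (0, 0, 0), (1, 3, 35), (1, 3, 36), (0, 0, 0), (0, 0, 0), (1, 3, 39), (0, 0, 0), (1, 0, 42), (1, 0, 43), (1, 1, 43), (3, 0, 44), (3, 1, 44), (0, 0, 0), (0, 0, 0), (0, 0, 0), (1, 0, 46), (1, 1, 47), (1, 2, 46), (1, 2, 47), (0, 0, 0), (3, 3, 46), (3, 3, 47), (0, 0, 0), (0, 0, 0), (1, 5, 47), (1, 7, 44), (0, 0, 0), (1, 9, 44), (1, 10, 44), (0, 0, 0), (0, 0, 0), (1, 13, 44), (0, 0, 0), (1, 15, 46), (1, 15, 47), (1, 16, 47), (3, 18, 47), (0, 0, 0), (1, 23, 47), (1, 24, 46)],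
   [(1, 1, 23), (3, 3, 42), (0, 0, 0), (1, 7, 14), (1, 0, 31), (3, 1, 28), (0, 0, 0), (1, 3, 33), (1, 3, 34), (1, 3, 35), (0, 0, 0), (1, 3, 37), (1, 3, 38), (0, 0, 0), (1, 3, 40), (1, 0, 42), (3, 1, 35), (0, 0, 0), (1, 7, 37), (1, 7, 38), (0, 0, 0), (0, 0, 0), (1, 1, 45), (1, 0, 46), (0, 0, 0), (0, 0, 0), (0, 0, 0), (1, 8, 40), (1, 9, 40), (0, 0, 0), (1, 4, 46), (3, 1, 40), (0, 0, 0), (1, 7, 44), (1, 8, 44), (1, 9, 44), (0, 0, 0), (1, 11, 44), (1, 12, 44), (0, 0, 0), (1, 14, 44), (1, 15, 46), (3, 1, 44), (0, 0, 0), (1, 33, 40), (1, 22, 46), (3, 5, 44), (0, 0, 0)],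
   [(3, 3, 41), (1, 0, 24), (0, 0, 0), (1, 7, 14), (1, 0, 31), (0, 0, 0), (3, 0, 29), (1, 3, 33), (1, 3, 34), (0, 0, 0), (1, 3, 36), (1, 3, 37), (1, 3, 38), (0, 0, 0), (1, 3, 40), (1, 0, 42), (0, 0, 0), (3, 0, 36), (1, 7, 37), (1, 7, 38), (0, 0, 0), (1, 0, 45), (0, 0, 0), (0, 0, 0), (1, 1, 47), (0, 0, 0), (0, 0, 0), (1, 8, 40), (0, 0, 0), (1, 10, 40), (3, 0, 40), (1, 4, 47), (0, 0, 0), (1, 7, 44), (1, 8, 44), (0, 0, 0), (1, 10, 44), (1, 11, 44), (1, 12, 44), (0, 0, 0), (1, 14, 44), (3, 0, 44), (1, 15, 47), (0, 0, 0), (1, 33, 40), (1, 21, 47), (0, 0, 0), (3, 6, 44)],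
   [(1, 2, 21), (0, 0, 0), (3, 3, 43), (1, 7, 14), (3, 2, 27), (1, 0, 32), (0, 0, 0), (1, 3, 33), (1, 3, 34), (1, 3, 35), (0, 0, 0), (1, 3, 37), (0, 0, 0), (1, 3, 39), (1, 3, 40), (3, 2, 34), (1, 0, 43), (0, 0, 0), (1, 7, 37), (0, 0, 0), (1, 7, 39), (1, 0, 45), (0, 0, 0), (0, 0, 0), (0, 0, 0), (1, 2, 46), (0, 0, 0), (1, 8, 40), (1, 9, 40), (0, 0, 0), (1, 4, 46), (0, 0, 0), (3, 2, 40), (1, 7, 44), (1, 8, 44), (1, 9, 44), (0, 0, 0), (1, 11, 44), (0, 0, 0), (1, 13, 44), (1, 14, 44), (1, 15, 46), (0, 0, 0), (3, 2, 44), (1, 33, 40), (3, 4, 44), (1, 25, 45), (0, 0, 0)],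
   [(0, 0, 0), (1, 2, 22), (3, 3, 43), (1, 7, 14), (3, 2, 27), (0, 0, 0), (1, 1, 32), (1, 3, 33), (1, 3, 34), (0, 0, 0), (1, 3, 36), (0, 0, 0), (1, 3, 38), (1, 3, 39), (1, 3, 40), (3, 2, 34), (0, 0, 0), (1, 1, 43), (0, 0, 0), (1, 7, 38), (1, 7, 39), (0, 0, 0), (1, 1, 45), (0, 0, 0), (0, 0, 0), (0, 0, 0), (1, 2, 47), (1, 8, 40), (0, 0, 0), (1, 10, 40), (0, 0, 0), (1, 4, 47), (3, 2, 40), (1, 7, 44), (1, 8, 44), (0, 0, 0), (1, 10, 44), (0, 0, 0), (1, 12, 44), (1, 13, 44), (1, 14, 44), (0, 0, 0), (1, 15, 47), (3, 2, 44), (1, 33, 40), (3, 4, 44), (0, 0, 0), (1, 26, 45)],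
   [(3, 3, 41), (0, 0, 0), (1, 0, 26), (1, 7, 14), (0, 0, 0), (1, 0, 32), (3, 0, 29), (1, 3, 33), (0, 0, 0), (1, 3, 35), (1, 3, 36), (1, 3, 37), (0, 0, 0), (1, 3, 39), (1, 3, 40), (0, 0, 0), (1, 0, 43), (3, 0, 36), (1, 7, 37), (0, 0, 0), (1, 7, 39), (0, 0, 0), (0, 0, 0), (1, 0, 46), (0, 0, 0), (0, 0, 0), (1, 2, 47), (0, 0, 0), (1, 9, 40), (1, 10, 40), (3, 0, 40), (0, 0, 0), (1, 5, 47), (1, 7, 44), (0, 0, 0), (1, 9, 44), (1, 10, 44), (1, 11, 44), (0, 0, 0), (1, 13, 44), (1, 14, 44), (3, 0, 44), (0, 0, 0), (1, 16, 47), (1, 33, 40), (0, 0, 0), (1, 23, 47), (3, 6, 44)],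
   [(0, 0, 0), (3, 3, 42), (1, 1, 25), (1, 7, 14), (0, 0, 0), (3, 1, 28), (1, 1, 32), (1, 3, 33), (0, 0, 0), (1, 3, 35), (1, 3, 36), (0, 0, 0), (1, 3, 38), (1, 3, 39), (1, 3, 40), (0, 0, 0), (3, 1, 35), (1, 1, 43), (0, 0, 0), (1, 7, 38), (1, 7, 39), (0, 0, 0), (0, 0, 0), (0, 0, 0), (1, 1, 47), (1, 2, 46), (0, 0, 0), (0, 0, 0), (1, 9, 40), (1, 10, 40), (0, 0, 0), (3, 1, 40), (1, 5, 47), (1, 7, 44), (0, 0, 0), (1, 9, 44), (1, 10, 44), (0, 0, 0), (1, 12, 44), (1, 13, 44), (1, 14, 44), (0, 0, 0), (3, 1, 44), (1, 16, 47), (1, 33, 40), (0, 0, 0), (3, 5, 44), (1, 24, 46)],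
   [(1, 1, 23), (1, 0, 24), (0, 0, 0), (3, 0, 29), (1, 0, 31), (1, 0, 32), (1, 1, 32), (0, 0, 0), (1, 3, 34), (0, 0, 0), (0, 0, 0), (1, 3, 37), (1, 3, 38), (0, 0, 0), (1, 3, 40), (1, 0, 42), (0, 0, 0), (0, 0, 0), (3, 0, 44), (3, 1, 44), (0, 0, 0), (1, 0, 45), (1, 1, 45), (1, 0, 46), (1, 1, 47), (0, 0, 0), (0, 0, 0), (0, 0, 0), (3, 3, 46), (3, 3, 47), (1, 4, 46), (1, 4, 47), (1, 5, 47), (0, 0, 0), (1, 8, 44), (0, 0, 0), (0, 0, 0), (1, 11, 44), (1, 12, 44), (0, 0, 0), (1, 14, 44), (1, 15, 46), (1, 15, 47), (0, 0, 0), (3, 18, 47), (1, 21, 47), (1, 23, 47), (1, 24, 46)],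
   [(1, 2, 21), (0, 0, 0), (1, 0, 26), (3, 0, 29), (1, 0, 31), (1, 0, 32), (1, 2, 31), (0, 0, 0), (0, 0, 0), (1, 3, 35), (0, 0, 0), (1, 3, 37), (0, 0, 0), (1, 3, 39), (1, 3, 40), (0, 0, 0), (1, 0, 43), (0, 0, 0), (3, 0, 44), (0, 0, 0), (3, 2, 44), (1, 0, 45), (0, 0, 0), (1, 0, 46), (0, 0, 0), (1, 2, 46), (1, 2, 47), (3, 3, 45), (0, 0, 0), (3, 3, 47), (1, 4, 46), (1, 4, 47), (1, 5, 47), (0, 0, 0), (0, 0, 0), (1, 9, 44), (0, 0, 0), (1, 11, 44), (0, 0, 0), (1, 13, 44), (1, 14, 44), (1, 16, 45), (0, 0, 0), (1, 16, 47), (3, 18, 47), (1, 21, 47), (1, 23, 47), (1, 26, 45)],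
   [(0, 0, 0), (1, 2, 22), (1, 1, 25), (3, 1, 28), (1, 1, 30), (1, 2, 30), (1, 1, 32), (0, 0, 0), (0, 0, 0), (0, 0, 0), (1, 3, 36), (0, 0, 0), (1, 3, 38), (1, 3, 39), (1, 3, 40), (0, 0, 0), (0, 0, 0), (1, 1, 43), (0, 0, 0), (3, 1, 44), (3, 2, 44), (0, 0, 0), (1, 1, 45), (0, 0, 0), (1, 1, 47), (1, 2, 46), (1, 2, 47), (3, 3, 45), (3, 3, 46), (0, 0, 0), (1, 4, 46), (1, 4, 47), (1, 5, 47), (0, 0, 0), (0, 0, 0), (0, 0, 0), (1, 10, 44), (0, 0, 0), (1, 12, 44), (1, 13, 44), (1, 14, 44), (0, 0, 0), (1, 17, 45), (1, 17, 46), (3, 19, 46), (1, 22, 46), (1, 25, 45), (1, 24, 46)],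
   [(3, 3, 41), (0, 0, 0), (0, 0, 0), (1, 8, 13), (1, 0, 31), (1, 0, 32), (3, 0, 29), (0, 0, 0), (1, 3, 34), (1, 3, 35), (0, 0, 0), (1, 3, 37), (1, 3, 38), (1, 3, 39), (1, 3, 40), (0, 0, 0), (0, 0, 0), (0, 0, 0), (1, 8, 35), (0, 0, 0), (0, 0, 0), (1, 0, 45), (3, 0, 38), (1, 0, 46), (0, 0, 0), (3, 0, 39), (0, 0, 0), (1, 8, 40), (1, 9, 40), (1, 12, 39), (0, 0, 0), (1, 4, 47), (1, 5, 47), (0, 0, 0), (1, 8, 44), (1, 9, 44), (0, 0, 0), (1, 11, 44), (1, 12, 44), (1, 13, 44), (1, 14, 44), (3, 0, 44), (0, 0, 0), (0, 0, 0), (1, 34, 39), (1, 21, 47), (1, 23, 47), (3, 6, 44)],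
   [(0, 0, 0), (3, 3, 42), (0, 0, 0), (1, 8, 13), (1, 1, 30), (3, 1, 28), (1, 1, 32), (0, 0, 0), (1, 3, 34), (0, 0, 0), (1, 3, 36), (1, 3, 37), (1, 3, 38), (1, 3, 39), (1, 3, 40), (0, 0, 0), (0, 0, 0), (0, 0, 0), (0, 0, 0), (1, 8, 36), (0, 0, 0), (3, 1, 37), (1, 1, 45), (0, 0, 0), (1, 1, 47), (0, 0, 0), (3, 1, 39), (1, 8, 40), (1, 11, 39), (1, 10, 40), (1, 4, 46), (0, 0, 0), (1, 5, 47), (0, 0, 0), (1, 8, 44), (0, 0, 0), (1, 10, 44), (1, 11, 44), (1, 12, 44), (1, 13, 44), (1, 14, 44), (0, 0, 0), (3, 1, 44), (0, 0, 0), (1, 34, 39), (1, 21, 47), (3, 5, 44), (1, 24, 46)],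
   [(0, 0, 0), (0, 0, 0), (3, 3, 43), (1, 9, 12), (3, 2, 27), (1, 2, 30), (1, 2, 31), (0, 0, 0), (0, 0, 0), (1, 3, 35), (1, 3, 36), (1, 3, 37), (1, 3, 38), (1, 3, 39), (1, 3, 40), (0, 0, 0), (0, 0, 0), (0, 0, 0), (0, 0, 0), (0, 0, 0), (1, 9, 36), (0, 0, 0), (0, 0, 0), (3, 2, 37), (3, 2, 38), (1, 2, 46), (1, 2, 47), (1, 11, 38), (1, 9, 40), (1, 10, 40), (1, 4, 46), (1, 4, 47), (0, 0, 0), (0, 0, 0), (0, 0, 0), (1, 9, 44), (1, 10, 44), (1, 11, 44), (1, 12, 44), (1, 13, 44), (1, 14, 44), (0, 0, 0), (0, 0, 0), (3, 2, 44), (1, 35, 38), (3, 4, 44), (1, 23, 47), (1, 24, 46)],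
   [(1, 1, 23), (1, 0, 24), (1, 0, 26), (0, 0, 0), (0, 0, 0), (0, 0, 0), (0, 0, 0), (1, 8, 20), (3, 0, 38), (3, 0, 39), (3, 1, 39), (0, 0, 0), (0, 0, 0), (0, 0, 0), (0, 0, 0), (1, 0, 42), (1, 0, 43), (1, 1, 43), (1, 7, 37), (1, 7, 38), (1, 7, 39), (1, 0, 45), (1, 1, 45), (1, 0, 46), (1, 1, 47), (1, 2, 46), (1, 2, 47), (0, 0, 0), (0, 0, 0), (0, 0, 0), (0, 0, 0), (0, 0, 0), (0, 0, 0), (0, 0, 0), (1, 8, 44), (1, 9, 44), (1, 10, 44), (3, 8, 46), (3, 8, 47), (3, 9, 47), (0, 0, 0), (1, 15, 46), (1, 15, 47), (1, 16, 47), (1, 34, 39), (1, 21, 47), (1, 23, 47), (1, 24, 46)],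
   [(1, 1, 23), (1, 0, 24), (0, 0, 0), (0, 0, 0), (1, 0, 31), (0, 0, 0), (0, 0, 0), (3, 0, 36), (1, 7, 27), (0, 0, 0), (0, 0, 0), (3, 0, 40), (3, 1, 40), (0, 0, 0), (0, 0, 0), (1, 0, 42), (1, 0, 43), (1, 1, 43), (1, 7, 37), (1, 7, 38), (0, 0, 0), (1, 0, 45), (1, 1, 45), (1, 0, 46), (1, 1, 47), (0, 0, 0), (0, 0, 0), (1, 8, 40), (0, 0, 0), (0, 0, 0), (1, 4, 46), (1, 4, 47), (0, 0, 0), (1, 7, 44), (0, 0, 0), (3, 7, 46), (3, 7, 47), (1, 11, 44), (1, 12, 44), (0, 0, 0), (3, 11, 47), (1, 15, 46), (1, 15, 47), (1, 16, 47), (1, 33, 40), (1, 21, 47), (1, 23, 47), (1, 24, 46)],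
   [(1, 2, 21), (0, 0, 0), (1, 0, 26), (0, 0, 0), (0, 0, 0), (1, 0, 32), (0, 0, 0), (3, 0, 36), (0, 0, 0), (1, 7, 28), (0, 0, 0), (3, 0, 40), (0, 0, 0), (3, 2, 40), (0, 0, 0), (1, 0, 42), (1, 0, 43), (1, 2, 42), (1, 7, 37), (0, 0, 0), (1, 7, 39), (1, 0, 45), (0, 0, 0), (1, 0, 46), (0, 0, 0), (1, 2, 46), (1, 2, 47), (0, 0, 0), (1, 9, 40), (0, 0, 0), (1, 5, 45), (0, 0, 0), (1, 5, 47), (1, 7, 44), (3, 7, 45), (0, 0, 0), (3, 7, 47), (1, 11, 44), (0, 0, 0), (1, 13, 44), (3, 11, 47), (1, 15, 46), (1, 15, 47), (1, 16, 47), (1, 33, 40), (1, 21, 47), (1, 23, 47), (1, 26, 45)],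
   [(0, 0, 0), (1, 2, 22), (1, 1, 25), (0, 0, 0), (0, 0, 0), (0, 0, 0), (1, 1, 32), (3, 1, 35), (0, 0, 0), (0, 0, 0), (1, 7, 29), (0, 0, 0), (3, 1, 40), (3, 2, 40), (0, 0, 0), (1, 1, 41), (1, 2, 41), (1, 1, 43), (0, 0, 0), (1, 7, 38), (1, 7, 39), (0, 0, 0), (1, 1, 45), (0, 0, 0), (1, 1, 47), (1, 2, 46), (1, 2, 47), (0, 0, 0), (0, 0, 0), (1, 10, 40), (0, 0, 0), (1, 6, 45), (1, 6, 46), (1, 7, 44), (3, 7, 45), (3, 7, 46), (0, 0, 0), (0, 0, 0), (1, 12, 44), (1, 13, 44), (3, 12, 46), (1, 15, 46), (1, 15, 47), (1, 16, 47), (1, 33, 40), (1, 22, 46), (1, 25, 45), (1, 24, 46)],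
   [(1, 4, 16), (0, 0, 0), (0, 0, 0), (0, 0, 0), (1, 0, 31), (1, 0, 32), (0, 0, 0), (0, 0, 0), (3, 0, 38), (3, 0, 39), (0, 0, 0), (1, 8, 28), (0, 0, 0), (0, 0, 0), (3, 4, 39), (1, 0, 42), (1, 0, 43), (0, 0, 0), (1, 8, 35), (0, 0, 0), (0, 0, 0), (1, 0, 45), (1, 4, 42), (1, 0, 46), (0, 0, 0), (1, 5, 43), (0, 0, 0), (1, 8, 40), (1, 9, 40), (0, 0, 0), (1, 4, 46), (1, 4, 47), (1, 5, 47), (3, 8, 43), (1, 8, 44), (1, 9, 44), (0, 0, 0), (0, 0, 0), (3, 8, 47), (3, 9, 47), (1, 14, 44), (1, 15, 46), (1, 15, 47), (1, 16, 47), (1, 33, 40), (1, 21, 47), (1, 23, 47), (1, 31, 43)],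
   [(0, 0, 0), (1, 4, 17), (0, 0, 0), (0, 0, 0), (1, 1, 30), (0, 0, 0), (1, 1, 32), (0, 0, 0), (3, 1, 37), (0, 0, 0), (3, 1, 39), (0, 0, 0), (1, 8, 29), (0, 0, 0), (3, 4, 39), (1, 1, 41), (0, 0, 0), (1, 1, 43), (0, 0, 0), (1, 8, 36), (0, 0, 0), (1, 4, 41), (1, 1, 45), (0, 0, 0), (1, 1, 47), (0, 0, 0), (1, 6, 43), (1, 8, 40), (0, 0, 0), (1, 10, 40), (1, 4, 46), (1, 4, 47), (1, 6, 46), (3, 8, 43), (1, 8, 44), (0, 0, 0), (1, 10, 44), (3, 8, 46), (0, 0, 0), (3, 10, 46), (1, 14, 44), (1, 15, 46), (1, 15, 47), (1, 17, 46), (1, 33, 40), (1, 21, 47), (1, 30, 43), (1, 24, 46)],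
   [(0, 0, 0), (0, 0, 0), (1, 5, 17), (0, 0, 0), (0, 0, 0), (1, 2, 30), (1, 2, 31), (0, 0, 0), (0, 0, 0), (3, 2, 37), (3, 2, 38), (0, 0, 0), (0, 0, 0), (1, 9, 29), (3, 5, 38), (0, 0, 0), (1, 2, 41), (1, 2, 42), (0, 0, 0), (0, 0, 0), (1, 9, 36), (0, 0, 0), (0, 0, 0), (1, 5, 41), (1, 6, 42), (1, 2, 46), (1, 2, 47), (0, 0, 0), (1, 9, 40), (1, 10, 40), (1, 5, 45), (1, 6, 45), (1, 5, 47), (3, 9, 42), (0, 0, 0), (1, 9, 44), (1, 10, 44), (3, 9, 45), (3, 10, 45), (0, 0, 0), (1, 14, 44), (1, 16, 45), (1, 17, 45), (1, 16, 47), (1, 33, 40), (1, 30, 42), (1, 23, 47), (1, 24, 46)],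
   [(0, 0, 0), (0, 0, 0), (0, 0, 0), (0, 0, 0), (1, 5, 22), (1, 4, 25), (1, 4, 26), (0, 0, 0), (0, 0, 0), (0, 0, 0), (0, 0, 0), (3, 4, 35), (3, 4, 36), (3, 5, 36), (1, 11, 29), (0, 0, 0), (0, 0, 0), (0, 0, 0), (0, 0, 0), (0, 0, 0), (0, 0, 0), (1, 4, 41), (1, 4, 42), (1, 5, 41), (1, 6, 42), (1, 5, 43), (1, 6, 43), (1, 11, 38), (1, 11, 39), (1, 12, 39), (1, 4, 46), (1, 4, 47), (1, 5, 47), (0, 0, 0), (3, 11, 42), (3, 11, 43), (3, 12, 43), (1, 11, 44), (1, 12, 44), (1, 13, 44), (0, 0, 0), (1, 21, 43), (1, 22, 43), (1, 25, 42), (1, 34, 39), (1, 21, 47), (1, 23, 47), (1, 24, 46)],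
   [(3, 7, 30), (0, 0, 0), (0, 0, 0), (0, 0, 0), (0, 0, 0), (0, 0, 0), (0, 0, 0), (1, 8, 20), (1, 7, 27), (1, 7, 28), (0, 0, 0), (1, 8, 28), (0, 0, 0), (0, 0, 0), (0, 0, 0), (1, 0, 42), (1, 0, 43), (3, 0, 36), (1, 7, 37), (1, 7, 38), (1, 7, 39), (1, 0, 45), (3, 0, 38), (1, 0, 46), (0, 0, 0), (3, 0, 39), (0, 0, 0), (1, 8, 40), (1, 9, 40), (0, 0, 0), (3, 0, 40), (0, 0, 0), (0, 0, 0), (1, 7, 44), (1, 8, 44), (1, 9, 44), (1, 19, 39), (1, 11, 44), (1, 19, 40), (1, 20, 40), (1, 27, 39), (0, 0, 0), (1, 15, 47), (1, 16, 47), (1, 33, 40), (1, 21, 47), (1, 23, 47), (3, 17, 40)],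
   [(0, 0, 0), (3, 7, 31), (0, 0, 0), (0, 0, 0), (0, 0, 0), (0, 0, 0), (0, 0, 0), (1, 8, 20), (1, 7, 27), (0, 0, 0), (1, 7, 29), (0, 0, 0), (1, 8, 29), (0, 0, 0), (0, 0, 0), (1, 1, 41), (3, 1, 35), (1, 1, 43), (1, 7, 37), (1, 7, 38), (1, 7, 39), (3, 1, 37), (1, 1, 45), (0, 0, 0), (1, 1, 47), (0, 0, 0), (3, 1, 39), (1, 8, 40), (0, 0, 0), (1, 10, 40), (0, 0, 0), (3, 1, 40), (0, 0, 0), (1, 7, 44), (1, 8, 44), (1, 18, 39), (1, 10, 44), (1, 18, 40), (1, 12, 44), (1, 20, 40), (1, 27, 39), (1, 15, 46), (0, 0, 0), (1, 16, 47), (1, 33, 40), (1, 21, 47), (3, 16, 40), (1, 24, 46)],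
   [(0, 0, 0), (0, 0, 0), (3, 7, 32), (0, 0, 0), (0, 0, 0), (0, 0, 0), (0, 0, 0), (1, 9, 19), (0, 0, 0), (1, 7, 28), (1, 7, 29), (0, 0, 0), (0, 0, 0), (1, 9, 29), (0, 0, 0), (3, 2, 34), (1, 2, 41), (1, 2, 42), (1, 7, 37), (1, 7, 38), (1, 7, 39), (0, 0, 0), (0, 0, 0), (3, 2, 37), (3, 2, 38), (1, 2, 46), (1, 2, 47), (0, 0, 0), (1, 9, 40), (1, 10, 40), (0, 0, 0), (0, 0, 0), (3, 2, 40), (1, 7, 44), (1, 18, 38), (1, 9, 44), (1, 10, 44), (1, 18, 40), (1, 19, 40), (1, 13, 44), (1, 28, 38), (1, 15, 46), (1, 15, 47), (0, 0, 0), (1, 33, 40), (3, 15, 40), (1, 23, 47), (1, 24, 46)],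
   [(0, 0, 0), (0, 0, 0), (0, 0, 0), (0, 0, 0), (0, 0, 0), (0, 0, 0), (0, 0, 0), (0, 0, 0), (0, 0, 0), (0, 0, 0), (0, 0, 0), (0, 0, 0), (0, 0, 0), (0, 0, 0), (0, 0, 0), (1, 16, 22), (1, 15, 25), (1, 15, 26), (3, 15, 28), (3, 15, 29), (3, 16, 29), (1, 15, 30), (1, 15, 31), (1, 16, 30), (1, 17, 31), (1, 16, 32), (1, 17, 32), (3, 18, 31), (3, 18, 32), (3, 19, 32), (1, 21, 32), (1, 22, 32), (1, 25, 31), (1, 18, 36), (1, 18, 38), (1, 18, 39), (1, 19, 39), (1, 18, 40), (1, 19, 40), (1, 20, 40), (1, 27, 39), (1, 15, 46), (1, 15, 47), (1, 16, 47), (0, 0, 0), (1, 21, 47), (1, 23, 47), (1, 24, 46)],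
   [(0, 0, 0), (0, 0, 0), (0, 0, 0), (0, 0, 0), (3, 8, 32), (0, 0, 0), (0, 0, 0), (0, 0, 0), (1, 11, 19), (0, 0, 0), (0, 0, 0), (1, 8, 28), (1, 8, 29), (0, 0, 0), (1, 11, 29), (3, 4, 33), (0, 0, 0), (0, 0, 0), (1, 8, 35), (1, 8, 36), (0, 0, 0), (1, 4, 41), (1, 4, 42), (3, 4, 35), (3, 4, 36), (0, 0, 0), (0, 0, 0), (1, 8, 40), (1, 11, 39), (1, 12, 39), (1, 4, 46), (1, 4, 47), (3, 4, 39), (1, 18, 36), (1, 8, 44), (1, 18, 39), (1, 19, 39), (1, 11, 44), (1, 12, 44), (1, 28, 36), (1, 14, 44), (1, 15, 46), (1, 15, 47), (3, 15, 39), (1, 33, 40), (0, 0, 0), (1, 23, 47), (1, 24, 46)],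
   [(0, 0, 0), (0, 0, 0), (0, 0, 0), (0, 0, 0), (0, 0, 0), (3, 9, 31), (0, 0, 0), (0, 0, 0), (0, 0, 0), (1, 11, 20), (0, 0, 0), (1, 9, 27), (0, 0, 0), (1, 9, 29), (1, 11, 29), (0, 0, 0), (3, 5, 33), (0, 0, 0), (1, 9, 34), (0, 0, 0), (1, 9, 36), (3, 5, 34), (0, 0, 0), (1, 5, 41), (0, 0, 0), (1, 5, 43), (3, 5, 36), (1, 11, 38), (1, 9, 40), (1, 13, 38), (1, 5, 45), (3, 5, 38), (1, 5, 47), (1, 18, 36), (1, 18, 38), (1, 9, 44), (1, 20, 38), (1, 11, 44), (1, 27, 36), (1, 13, 44), (1, 14, 44), (1, 16, 45), (3, 16, 38), (1, 16, 47), (1, 33, 40), (1, 21, 47), (0, 0, 0), (1, 26, 45)],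
   [(0, 0, 0), (0, 0, 0), (0, 0, 0), (0, 0, 0), (0, 0, 0), (0, 0, 0), (3, 10, 30), (0, 0, 0), (0, 0, 0), (0, 0, 0), (1, 12, 20), (0, 0, 0), (1, 10, 27), (1, 10, 28), (1, 12, 28), (0, 0, 0), (0, 0, 0), (3, 6, 33), (0, 0, 0), (1, 10, 34), (1, 10, 35), (0, 0, 0), (3, 6, 34), (0, 0, 0), (1, 6, 42), (3, 6, 35), (1, 6, 43), (1, 12, 37), (1, 13, 37), (1, 10, 40), (3, 6, 37), (1, 6, 45), (1, 6, 46), (1, 19, 35), (1, 19, 37), (1, 20, 37), (1, 10, 44), (1, 27, 35), (1, 12, 44), (1, 13, 44), (1, 14, 44), (3, 17, 37), (1, 17, 45), (1, 17, 46), (1, 33, 40), (1, 22, 46), (1, 25, 45), (0, 0, 0)]]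

/-- Reflections lowering the depth of a pair. -/
def stepT : List (List (ℕ × ℕ)) :=
  [[(0, 0), (0, 0), (0, 0), (0, 0), (0, 0), (0, 0), (0, 0), (0, 0), (0, 0), (0, 0), (0, 0), (0, 0), (0, 0), (0, 0), (0, 0), (0, 0), (0, 0), (0, 0), (0, 0), (0, 0), (0, 0), (0, 0), (0, 0), (0, 0), (0, 0), (0, 0), (0, 0), (0, 0), (0, 0), (0, 0), (0, 0), (0, 0), (0, 0), (0, 0), (0, 0), (0, 0), (14, 1), (0, 0), (13, 1), (12, 1), (10, 1), (0, 0), (0, 0), (0, 0), (6, 1), (0, 0), (0, 0), (0, 0)],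
   [(0, 0), (0, 0), (0, 0), (0, 0), (0, 0), (0, 0), (0, 0), (0, 0), (0, 0), (0, 0), (0, 0), (0, 0), (0, 0), (0, 0), (0, 0), (0, 0), (0, 0), (0, 0), (0, 0), (0, 0), (0, 0), (0, 0), (0, 0), (0, 0), (0, 0), (23, 1), (0, 0), (0, 0), (23, 1), (0, 0), (23, 1), (0, 0), (0, 0), (0, 0), (0, 0), (23, 2), (0, 0), (23, 2), (0, 0), (12, 2), (10, 2), (23, 1), (0, 0), (0, 0), (6, 2), (0, 0), (0, 0), (0, 0)],
   [(0, 0), (0, 0), (0, 0), (0, 0), (0, 0), (0, 0), (0, 0), (0, 0), (0, 0), (0, 0), (0, 0), (0, 0), (0, 0), (0, 0), (0, 0), (0, 0), (0, 0), (0, 0), (0, 0), (0, 0), (0, 0), (22, 1), (21, 1), (0, 0), (0, 0), (0, 0), (0, 0), (21, 1), (0, 0), (0, 0), (21, 1), (22, 1), (0, 0), (0, 0), (21, 2), (0, 0), (0, 0), (21, 2), (13, 2), (0, 0), (10, 2), (21, 1), (22, 1), (0, 0), (6, 2), (0, 0), (0, 0), (0, 0)],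
   [(0, 0), (0, 0), (0, 0), (0, 0), (0, 0), (0, 0), (0, 0), (0, 0), (0, 0), (0, 0), (0, 0), (0, 0), (0, 0), (0, 0), (0, 0), (0, 0), (0, 0), (0, 0), (0, 0), (0, 0), (0, 0), (0, 0), (0, 0), (0, 0), (0, 0), (0, 0), (0, 0), (0, 0), (0, 0), (0, 0), (0, 0), (0, 0), (0, 0), (0, 0), (0, 0), (0, 0), (0, 0), (0, 0), (0, 0), (0, 0), (0, 0), (18, 2), (15, 2), (16, 2), (0, 0), (21, 2), (23, 2), (0, 1)],
   [(0, 0), (0, 0), (0, 0), (0, 0), (0, 0), (0, 0), (0, 0), (0, 0), (0, 0), (0, 0), (0, 0), (0, 0), (0, 0), (0, 0), (0, 0), (0, 0), (17, 1), (16, 1), (0, 0), (0, 0), (16, 1), (0, 0), (0, 0), (0, 0), (0, 0), (16, 1), (17, 1), (0, 0), (0, 0), (0, 0), (0, 0), (0, 0), (0, 0), (16, 2), (0, 0), (16, 2), (14, 2), (0, 0), (0, 0), (12, 2), (0, 0), (16, 1), (17, 1), (0, 0), (6, 2), (0, 0), (0, 0), (0, 0)],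
   [(0, 0), (0, 0), (0, 0), (0, 0), (0, 0), (0, 0), (0, 0), (0, 0), (0, 0), (0, 0), (0, 0), (0, 0), (0, 0), (0, 0), (0, 0), (19, 1), (0, 0), (15, 1), (0, 0), (15, 1), (0, 0), (0, 0), (15, 1), (0, 0), (19, 1), (0, 0), (0, 0), (0, 0), (0, 0), (0, 0), (0, 0), (0, 0), (0, 0), (15, 2), (15, 2), (0, 0), (14, 2), (0, 0), (13, 2), (0, 0), (0, 0), (15, 1), (0, 0), (17, 1), (6, 2), (22, 1), (0, 0), (0, 0)],
   [(0, 0), (0, 0), (0, 0), (0, 0), (0, 0), (0, 0), (0, 0), (0, 0), (0, 0), (0, 0), (0, 0), (0, 0), (0, 0), (0, 0), (0, 0), (18, 1), (18, 1), (0, 0), (18, 1), (0, 0), (0, 0), (18, 1), (0, 0), (18, 1), (0, 0), (0, 0), (0, 0), (0, 0), (0, 0), (0, 0), (0, 0), (0, 0), (0, 0), (14, 2), (13, 2), (12, 2), (0, 0), (10, 2), (0, 0), (0, 0), (0, 0), (0, 0), (15, 1), (16, 1), (3, 2), (21, 1), (23, 1), (0, 0)],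
   [(0, 0), (0, 0), (0, 0), (0, 0), (0, 0), (0, 0), (0, 0), (0, 0), (0, 0), (0, 0), (0, 0), (0, 0), (0, 0), (0, 0), (0, 0), (0, 0), (0, 0), (0, 0), (0, 0), (0, 0), (0, 0), (0, 0), (0, 0), (0, 0), (0, 0), (0, 0), (0, 0), (14, 1), (14, 1), (14, 1), (18, 2), (15, 2), (16, 2), (0, 0), (0, 0), (0, 0), (0, 0), (0, 0), (0, 0), (0, 0), (0, 0), (0, 0), (0, 0), (0, 0), (0, 0), (21, 3), (23, 3), (14, 2)],
   [(0, 0), (0, 0), (0, 0), (0, 0), (0, 0), (0, 0), (0, 0), (0, 0), (0, 0), (0, 0), (0, 0), (0, 0), (0, 0), (20, 1), (0, 0), (0, 0), (0, 0), (0, 0), (0, 0), (0, 0), (13, 1), (0, 0), (0, 0), (0, 0), (0, 0), (18, 2), (15, 2), (0, 0), (13, 1), (13, 1), (0, 0), (0, 0), (21, 2), (0, 0), (0, 0), (20, 1), (20, 1), (0, 0), (0, 0), (0, 0), (0, 0), (0, 0), (0, 0), (16, 3), (0, 0), (0, 0), (23, 3), (13, 2)],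
   [(0, 0), (0, 0), (0, 0), (0, 0), (0, 0), (0, 0), (0, 0), (0, 0), (0, 0), (0, 0), (0, 0), (0, 0), (19, 1), (0, 0), (0, 0), (0, 0), (0, 0), (0, 0), (0, 0), (12, 1), (0, 0), (0, 0), (18, 2), (0, 0), (16, 2), (0, 0), (0, 0), (12, 1), (0, 0), (12, 1), (0, 0), (23, 2), (0, 0), (0, 0), (19, 1), (0, 0), (19, 1), (0, 0), (0, 0), (0, 0), (0, 0), (0, 0), (15, 3), (0, 0), (0, 0), (21, 3), (0, 0), (12, 2)],
   [(0, 0), (0, 0), (0, 0), (0, 0), (0, 0), (0, 0), (0, 0), (0, 0), (0, 0), (0, 0), (0, 0), (18, 1), (0, 0), (0, 0), (0, 0), (0, 0), (0, 0), (0, 0), (11, 1), (0, 0), (0, 0), (7, 2), (0, 0), (7, 2), (0, 0), (0, 0), (0, 0), (11, 1), (11, 1), (0, 0), (7, 1), (0, 0), (0, 0), (0, 0), (18, 1), (18, 1), (0, 0), (0, 0), (0, 0), (0, 0), (0, 0), (7, 2), (0, 0), (0, 0), (0, 0), (7, 2), (7, 2), (0, 0)],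
   [(0, 0), (0, 0), (0, 0), (0, 0), (0, 0), (0, 0), (0, 0), (0, 0), (0, 0), (0, 0), (17, 1), (0, 0), (0, 0), (0, 0), (0, 0), (0, 0), (0, 0), (18, 2), (0, 0), (10, 1), (10, 1), (0, 0), (0, 0), (0, 0), (21, 2), (0, 0), (23, 2), (0, 0), (0, 0), (10, 1), (0, 0), (0, 0), (0, 0), (17, 1), (0, 0), (0, 0), (0, 0), (0, 0), (19, 1), (20, 1), (0, 0), (0, 0), (15, 3), (16, 3), (0, 0), (0, 0), (0, 0), (10, 2)],
   [(0, 0), (0, 0), (0, 0), (0, 0), (0, 0), (0, 0), (0, 0), (0, 0), (0, 0), (16, 1), (0, 0), (0, 0), (0, 0), (0, 0), (0, 0), (0, 0), (8, 2), (0, 0), (9, 1), (0, 0), (9, 1), (0, 0), (0, 0), (8, 2), (0, 0), (8, 1), (0, 0), (0, 0), (9, 1), (0, 0), (0, 0), (0, 0), (0, 0), (16, 1), (0, 0), (0, 0), (0, 0), (18, 1), (0, 0), (20, 1), (0, 0), (8, 2), (0, 0), (8, 2), (0, 0), (0, 0), (8, 2), (0, 0)],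
   [(0, 0), (0, 0), (0, 0), (0, 0), (0, 0), (0, 0), (0, 0), (0, 0), (15, 1), (0, 0), (0, 0), (0, 0), (0, 0), (0, 0), (0, 0), (9, 2), (0, 0), (0, 0), (8, 1), (8, 1), (0, 0), (9, 2), (9, 1), (0, 0), (0, 0), (0, 0), (0, 0), (8, 1), (0, 0), (0, 0), (0, 0), (0, 0), (0, 0), (15, 1), (0, 0), (0, 0), (0, 0), (18, 1), (19, 1), (0, 0), (0, 0), (9, 2), (9, 2), (0, 0), (0, 0), (9, 2), (0, 0), (0, 0)],
   [(0, 0), (0, 0), (0, 0), (0, 0), (0, 0), (0, 0), (0, 0), (20, 2), (0, 0), (0, 0), (0, 0), (0, 0), (0, 0), (0, 0), (0, 0), (11, 2), (11, 2), (11, 1), (7, 1), (7, 1), (7, 1), (0, 0), (0, 0), (0, 0), (0, 0), (0, 0), (0, 0), (0, 0), (0, 0), (0, 0), (0, 0), (0, 0), (0, 0), (0, 0), (15, 1), (16, 1), (17, 1), (0, 0), (0, 0), (0, 0), (0, 0), (11, 2), (11, 2), (11, 2), (0, 0), (0, 0), (0, 0), (0, 0)],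
   [(0, 0), (0, 0), (0, 0), (0, 0), (0, 0), (6, 1), (5, 1), (0, 0), (0, 0), (0, 0), (0, 0), (0, 0), (0, 0), (9, 2), (11, 2), (0, 0), (0, 0), (0, 0), (0, 0), (0, 0), (0, 0), (0, 0), (0, 0), (0, 0), (0, 0), (5, 1), (6, 1), (0, 0), (23, 2), (5, 1), (5, 1), (6, 1), (0, 0), (0, 0), (0, 0), (0, 0), (0, 0), (0, 0), (0, 0), (12, 2), (10, 2), (0, 0), (0, 0), (0, 0), (0, 0), (0, 0), (0, 0), (0, 0)],
   [(0, 0), (0, 0), (0, 0), (0, 0), (12, 1), (0, 0), (4, 1), (0, 0), (0, 0), (0, 0), (0, 0), (0, 0), (8, 2), (0, 0), (11, 2), (0, 0), (0, 0), (0, 0), (0, 0), (0, 0), (0, 0), (0, 0), (4, 1), (0, 0), (12, 1), (0, 0), (0, 0), (21, 2), (0, 0), (4, 1), (4, 1), (0, 0), (6, 1), (0, 0), (0, 0), (0, 0), (0, 0), (0, 0), (13, 2), (0, 0), (10, 2), (0, 0), (0, 0), (0, 0), (0, 0), (22, 1), (0, 0), (0, 0)],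
   [(0, 0), (0, 0), (0, 0), (0, 0), (11, 1), (11, 1), (0, 0), (0, 0), (0, 0), (0, 0), (0, 0), (18, 2), (0, 0), (0, 0), (11, 1), (0, 0), (0, 0), (0, 0), (0, 0), (0, 0), (0, 0), (11, 1), (0, 0), (11, 1), (0, 0), (0, 0), (0, 0), (21, 2), (23, 2), (0, 0), (0, 0), (4, 1), (5, 1), (0, 0), (0, 0), (0, 0), (0, 0), (11, 2), (0, 0), (0, 0), (10, 2), (0, 0), (0, 0), (0, 0), (0, 0), (21, 1), (23, 1), (0, 0)],
   [(0, 0), (0, 0), (0, 0), (0, 0), (0, 0), (0, 0), (18, 1), (0, 0), (0, 0), (0, 0), (6, 1), (0, 0), (6, 1), (6, 1), (6, 1), (0, 0), (0, 0), (0, 0), (0, 0), (0, 0), (0, 0), (0, 0), (0, 0), (0, 0), (18, 2), (0, 0), (18, 2), (0, 0), (0, 0), (0, 0), (0, 0), (18, 2), (18, 2), (0, 0), (0, 0), (0, 0), (10, 1), (0, 0), (12, 1), (13, 1), (14, 1), (0, 0), (0, 0), (0, 0), (0, 0), (0, 0), (0, 0), (6, 2)],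
   [(0, 0), (0, 0), (0, 0), (0, 0), (0, 0), (15, 1), (0, 0), (0, 0), (0, 0), (5, 1), (0, 0), (5, 1), (0, 0), (5, 1), (5, 1), (0, 0), (0, 0), (0, 0), (0, 0), (0, 0), (0, 0), (0, 0), (0, 0), (15, 2), (0, 0), (15, 2), (0, 0), (0, 0), (0, 0), (0, 0), (15, 2), (0, 0), (5, 2), (0, 0), (0, 0), (9, 1), (0, 0), (11, 1), (0, 0), (13, 1), (14, 1), (0, 0), (0, 0), (0, 0), (0, 0), (0, 0), (15, 2), (0, 0)],
   [(0, 0), (0, 0), (0, 0), (0, 0), (16, 1), (0, 0), (0, 0), (0, 0), (4, 1), (0, 0), (0, 0), (4, 1), (4, 1), (0, 0), (4, 1), (0, 0), (0, 0), (0, 0), (0, 0), (0, 0), (0, 0), (16, 2), (16, 2), (0, 0), (0, 0), (0, 0), (0, 0), (0, 0), (0, 0), (0, 0), (16, 2), (4, 2), (0, 0), (0, 0), (8, 1), (0, 0), (0, 0), (11, 1), (12, 1), (0, 0), (14, 1), (0, 0), (0, 0), (0, 0), (0, 0), (16, 2), (0, 0), (0, 0)],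
   [(0, 0), (0, 0), (10, 1), (0, 0), (0, 0), (0, 0), (2, 1), (0, 0), (0, 0), (0, 0), (7, 2), (0, 0), (0, 0), (9, 2), (0, 0), (0, 0), (0, 0), (2, 1), (0, 0), (0, 0), (16, 2), (0, 0), (0, 0), (0, 0), (10, 1), (2, 1), (0, 0), (0, 0), (0, 0), (2, 1), (0, 0), (0, 0), (6, 1), (0, 0), (0, 0), (0, 0), (14, 2), (0, 0), (0, 0), (12, 2), (0, 0), (0, 0), (0, 0), (17, 1), (0, 0), (0, 0), (0, 0), (0, 0)],
   [(0, 0), (0, 0), (9, 1), (0, 0), (0, 0), (9, 1), (0, 0), (0, 0), (0, 0), (18, 2), (0, 0), (0, 0), (0, 0), (9, 1), (0, 0), (0, 0), (9, 1), (0, 0), (0, 0), (0, 0), (16, 2), (0, 0), (0, 0), (9, 1), (0, 0), (0, 0), (2, 1), (0, 0), (23, 2), (0, 0), (0, 0), (0, 0), (5, 1), (0, 0), (0, 0), (9, 2), (0, 0), (0, 0), (0, 0), (12, 2), (0, 0), (0, 0), (0, 0), (16, 1), (0, 0), (0, 0), (23, 1), (0, 0)],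
   [(0, 0), (19, 2), (0, 0), (0, 0), (0, 0), (0, 0), (1, 1), (0, 0), (0, 0), (0, 0), (7, 2), (0, 0), (8, 2), (0, 0), (0, 0), (0, 0), (0, 0), (1, 1), (0, 0), (15, 2), (0, 0), (0, 0), (1, 1), (0, 0), (0, 0), (0, 0), (10, 1), (0, 0), (0, 0), (1, 1), (0, 0), (12, 1), (0, 0), (0, 0), (0, 0), (0, 0), (14, 2), (0, 0), (13, 2), (0, 0), (0, 0), (0, 0), (19, 1), (0, 0), (0, 0), (0, 0), (0, 0), (0, 0)],
   [(18, 2), (0, 0), (0, 0), (0, 0), (0, 0), (0, 1), (0, 0), (0, 0), (0, 0), (16, 2), (0, 0), (21, 2), (0, 0), (0, 0), (0, 0), (0, 0), (0, 1), (0, 0), (18, 2), (0, 0), (0, 0), (0, 1), (0, 0), (0, 0), (0, 0), (9, 1), (0, 0), (0, 0), (1, 2), (0, 0), (11, 1), (0, 0), (0, 0), (0, 0), (0, 0), (14, 3), (0, 0), (13, 3), (0, 0), (0, 0), (0, 0), (18, 1), (0, 0), (0, 0), (0, 0), (0, 0), (0, 0), (0, 0)],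
   [(0, 0), (8, 1), (0, 0), (0, 0), (8, 1), (0, 0), (0, 0), (0, 0), (18, 2), (0, 0), (0, 0), (0, 0), (8, 1), (0, 0), (0, 0), (8, 1), (0, 0), (0, 0), (0, 0), (15, 2), (0, 0), (8, 1), (0, 0), (0, 0), (1, 1), (0, 0), (0, 0), (21, 2), (0, 0), (0, 0), (0, 0), (4, 1), (0, 0), (0, 0), (8, 2), (0, 0), (0, 0), (0, 0), (13, 2), (0, 0), (0, 0), (0, 0), (15, 1), (0, 0), (0, 0), (21, 1), (0, 0), (0, 0)],
   [(18, 2), (0, 0), (0, 0), (0, 0), (8, 1), (0, 0), (0, 0), (0, 0), (15, 2), (0, 0), (0, 0), (23, 2), (0, 0), (0, 0), (0, 0), (8, 1), (0, 0), (0, 0), (18, 2), (0, 0), (0, 0), (0, 0), (8, 1), (0, 1), (0, 0), (0, 0), (0, 0), (2, 2), (0, 0), (0, 0), (11, 1), (0, 0), (0, 0), (0, 0), (14, 3), (0, 0), (0, 0), (12, 3), (0, 0), (0, 0), (0, 0), (18, 1), (0, 0), (0, 0), (0, 0), (22, 1), (0, 0), (0, 0)],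
   [(0, 0), (0, 0), (21, 1), (0, 0), (0, 0), (0, 0), (0, 0), (2, 1), (0, 0), (2, 1), (2, 1), (0, 0), (0, 0), (2, 1), (0, 0), (0, 0), (21, 2), (21, 2), (0, 0), (0, 0), (0, 0), (0, 0), (0, 0), (0, 0), (0, 0), (21, 2), (2, 2), (0, 0), (0, 0), (0, 0), (0, 0), (0, 0), (0, 0), (7, 1), (0, 0), (9, 1), (10, 1), (0, 0), (0, 0), (13, 1), (0, 0), (0, 0), (0, 0), (21, 2), (0, 0), (0, 0), (0, 0), (0, 0)],
   [(0, 0), (23, 1), (0, 0), (0, 0), (0, 0), (0, 0), (0, 0), (1, 1), (1, 1), (0, 0), (1, 1), (0, 0), (1, 1), (0, 0), (0, 0), (23, 2), (0, 0), (23, 2), (0, 0), (0, 0), (0, 0), (0, 0), (23, 2), (0, 0), (1, 2), (0, 0), (0, 0), (0, 0), (0, 0), (0, 0), (0, 0), (0, 0), (0, 0), (7, 1), (8, 1), (0, 0), (10, 1), (0, 0), (12, 1), (0, 0), (0, 0), (0, 0), (23, 2), (0, 0), (0, 0), (0, 0), (0, 0), (0, 0)],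
   [(0, 0), (0, 0), (0, 0), (0, 0), (0, 0), (0, 0), (0, 0), (0, 1), (0, 1), (0, 1), (0, 0), (0, 1), (0, 0), (0, 0), (0, 0), (5, 1), (4, 1), (0, 0), (0, 0), (0, 0), (0, 0), (2, 1), (0, 0), (1, 1), (0, 0), (0, 0), (0, 0), (0, 0), (0, 0), (0, 0), (0, 0), (0, 0), (0, 0), (7, 1), (8, 1), (9, 1), (0, 0), (11, 1), (0, 0), (0, 0), (0, 0), (3, 1), (0, 0), (0, 0), (0, 0), (0, 0), (0, 0), (0, 0)],
   [(0, 0), (7, 1), (7, 1), (0, 0), (0, 0), (0, 0), (0, 0), (18, 2), (0, 0), (0, 0), (7, 1), (0, 0), (0, 0), (0, 0), (0, 0), (7, 1), (7, 1), (0, 0), (0, 0), (15, 2), (16, 2), (0, 0), (0, 0), (0, 0), (1, 1), (0, 0), (2, 1), (0, 0), (0, 0), (0, 0), (0, 0), (0, 0), (0, 0), (7, 2), (0, 0), (0, 0), (14, 2), (0, 0), (0, 0), (0, 0), (0, 0), (0, 0), (15, 1), (16, 1), (0, 0), (0, 0), (0, 0), (0, 0)],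
   [(18, 2), (0, 0), (7, 1), (0, 0), (0, 0), (0, 0), (0, 0), (15, 2), (0, 0), (23, 2), (0, 0), (0, 0), (0, 0), (0, 0), (0, 0), (7, 1), (0, 0), (7, 1), (18, 2), (0, 0), (4, 2), (0, 0), (0, 0), (0, 1), (0, 0), (9, 1), (0, 0), (0, 0), (0, 0), (0, 0), (0, 0), (0, 0), (0, 0), (13, 3), (0, 0), (10, 3), (0, 0), (0, 0), (0, 0), (0, 0), (0, 0), (18, 1), (0, 0), (17, 1), (0, 0), (0, 0), (0, 0), (0, 0)],
   [(18, 2), (19, 2), (0, 0), (0, 0), (0, 0), (0, 0), (0, 0), (16, 2), (21, 2), (0, 0), (0, 0), (0, 0), (0, 0), (0, 0), (0, 0), (0, 0), (7, 1), (7, 1), (18, 2), (5, 2), (0, 0), (8, 1), (8, 1), (0, 0), (0, 0), (0, 0), (0, 0), (0, 0), (0, 0), (0, 0), (0, 0), (0, 0), (0, 0), (12, 3), (10, 3), (0, 0), (0, 0), (0, 0), (0, 0), (0, 0), (0, 0), (18, 1), (19, 1), (0, 0), (0, 0), (0, 0), (0, 0), (0, 0)],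
   [(0, 0), (0, 0), (0, 0), (13, 2), (16, 2), (15, 2), (14, 2), (0, 0), (0, 0), (0, 0), (0, 0), (3, 1), (3, 1), (3, 1), (0, 0), (0, 0), (0, 0), (0, 0), (0, 0), (0, 0), (0, 0), (0, 0), (0, 0), (0, 0), (0, 0), (0, 0), (0, 0), (4, 1), (5, 1), (6, 1), (7, 2), (13, 3), (12, 3), (0, 0), (0, 0), (0, 0), (0, 0), (0, 0), (0, 0), (0, 0), (0, 0), (0, 0), (0, 0), (0, 0), (0, 0), (0, 0), (0, 0), (0, 0)],
   [(0, 0), (0, 0), (21, 2), (14, 2), (0, 0), (15, 2), (13, 2), (0, 0), (0, 0), (2, 1), (2, 1), (0, 0), (0, 0), (0, 0), (3, 1), (0, 0), (0, 0), (0, 0), (0, 0), (0, 0), (2, 1), (0, 0), (0, 0), (0, 0), (0, 0), (8, 2), (14, 3), (0, 0), (5, 1), (6, 1), (0, 0), (0, 0), (10, 3), (0, 0), (0, 0), (0, 0), (0, 0), (0, 0), (0, 0), (20, 1), (0, 0), (0, 0), (0, 0), (0, 0), (0, 0), (0, 0), (0, 0), (0, 0)],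
   [(0, 0), (23, 2), (0, 0), (14, 2), (16, 2), (0, 0), (12, 2), (0, 0), (1, 1), (0, 0), (1, 1), (0, 0), (0, 0), (0, 0), (3, 1), (0, 0), (0, 0), (0, 0), (0, 0), (1, 1), (0, 0), (0, 0), (9, 2), (0, 0), (14, 3), (0, 0), (0, 0), (4, 1), (0, 0), (6, 1), (0, 0), (10, 3), (0, 0), (0, 0), (0, 0), (0, 0), (0, 0), (0, 0), (19, 1), (0, 0), (0, 0), (0, 0), (0, 0), (0, 0), (0, 0), (0, 0), (0, 0), (0, 0)],
   [(14, 1), (0, 0), (0, 0), (14, 2), (14, 2), (14, 2), (0, 0), (0, 0), (0, 1), (0, 1), (0, 0), (0, 0), (0, 0), (0, 0), (3, 1), (0, 0), (0, 0), (0, 0), (0, 1), (0, 0), (0, 0), (14, 2), (0, 0), (14, 2), (0, 0), (0, 0), (0, 0), (4, 1), (5, 1), (0, 0), (14, 2), (0, 0), (0, 0), (0, 0), (0, 0), (0, 0), (0, 0), (18, 1), (0, 0), (0, 0), (0, 0), (0, 0), (0, 0), (0, 0), (0, 0), (0, 0), (0, 0), (0, 0)],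
   [(0, 0), (23, 2), (21, 2), (13, 2), (0, 0), (0, 0), (10, 2), (20, 2), (0, 0), (0, 0), (0, 0), (0, 0), (1, 1), (2, 1), (0, 0), (0, 0), (0, 0), (11, 2), (0, 0), (1, 1), (2, 1), (0, 0), (0, 0), (0, 0), (13, 3), (0, 0), (12, 3), (0, 0), (0, 0), (6, 1), (0, 0), (0, 0), (0, 0), (0, 0), (0, 0), (0, 0), (17, 1), (0, 0), (0, 0), (0, 0), (0, 0), (0, 0), (0, 0), (0, 0), (0, 0), (0, 0), (0, 0), (0, 0)],
   [(13, 1), (0, 0), (13, 2), (13, 2), (0, 0), (13, 2), (0, 0), (20, 2), (0, 0), (0, 0), (0, 0), (0, 1), (0, 0), (2, 1), (0, 0), (0, 0), (13, 2), (0, 0), (0, 1), (0, 0), (2, 1), (0, 0), (0, 0), (13, 2), (0, 0), (13, 2), (0, 0), (0, 0), (5, 1), (0, 0), (0, 0), (0, 0), (0, 0), (0, 0), (0, 0), (16, 1), (0, 0), (0, 0), (0, 0), (0, 0), (0, 0), (0, 0), (0, 0), (0, 0), (0, 0), (0, 0), (0, 0), (0, 0)],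
   [(12, 1), (12, 2), (0, 0), (12, 2), (12, 2), (0, 0), (0, 0), (19, 2), (0, 0), (0, 0), (0, 0), (0, 1), (1, 1), (0, 0), (0, 0), (12, 2), (0, 0), (0, 0), (0, 1), (1, 1), (0, 0), (12, 2), (12, 2), (0, 0), (0, 0), (0, 0), (0, 0), (4, 1), (0, 0), (0, 0), (0, 0), (0, 0), (0, 0), (0, 0), (15, 1), (0, 0), (0, 0), (0, 0), (0, 0), (0, 0), (0, 0), (0, 0), (0, 0), (0, 0), (0, 0), (0, 0), (0, 0), (0, 0)],
   [(10, 1), (10, 2), (10, 2), (10, 2), (0, 0), (0, 0), (0, 0), (0, 0), (19, 2), (20, 2), (20, 2), (0, 0), (0, 0), (0, 0), (0, 0), (10, 2), (10, 2), (10, 2), (0, 1), (1, 1), (2, 1), (0, 0), (0, 0), (0, 0), (0, 0), (0, 0), (0, 0), (0, 0), (0, 0), (0, 0), (0, 0), (0, 0), (0, 0), (20, 2), (0, 0), (0, 0), (0, 0), (0, 0), (0, 0), (0, 0), (0, 0), (0, 0), (0, 0), (0, 0), (0, 0), (0, 0), (0, 0), (0, 0)],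
   [(0, 0), (3, 1), (3, 1), (18, 2), (3, 1), (3, 1), (0, 0), (0, 0), (0, 0), (0, 0), (7, 2), (0, 0), (8, 2), (9, 2), (11, 2), (0, 0), (0, 0), (0, 0), (0, 0), (0, 0), (0, 0), (0, 0), (0, 0), (0, 0), (1, 1), (0, 0), (2, 1), (0, 0), (0, 0), (3, 1), (0, 0), (4, 1), (5, 1), (0, 0), (0, 0), (0, 0), (0, 0), (0, 0), (0, 0), (0, 0), (0, 0), (0, 0), (0, 0), (0, 0), (0, 0), (0, 0), (0, 0), (0, 0)],
   [(11, 2), (0, 0), (3, 1), (15, 2), (3, 1), (0, 0), (3, 1), (0, 0), (0, 0), (15, 3), (0, 0), (15, 3), (0, 0), (9, 2), (11, 2), (0, 0), (0, 0), (0, 0), (0, 0), (0, 0), (0, 0), (0, 0), (0, 0), (0, 1), (0, 0), (9, 1), (0, 0), (0, 0), (23, 2), (0, 0), (11, 1), (0, 0), (6, 1), (0, 0), (0, 0), (0, 0), (0, 0), (0, 0), (0, 0), (0, 0), (0, 0), (0, 0), (0, 0), (0, 0), (0, 0), (0, 0), (0, 0), (0, 0)],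
   [(11, 2), (12, 2), (0, 0), (16, 2), (0, 0), (3, 1), (3, 1), (0, 0), (16, 3), (0, 0), (0, 0), (16, 3), (8, 2), (0, 0), (11, 2), (0, 0), (0, 0), (0, 0), (0, 0), (0, 0), (0, 0), (8, 1), (8, 1), (0, 0), (0, 0), (0, 0), (0, 0), (21, 2), (0, 0), (0, 0), (11, 1), (12, 1), (0, 0), (0, 0), (0, 0), (0, 0), (0, 0), (0, 0), (0, 0), (0, 0), (0, 0), (0, 0), (0, 0), (0, 0), (0, 0), (0, 0), (0, 0), (0, 0)],
   [(6, 1), (6, 2), (6, 2), (0, 0), (6, 2), (6, 2), (3, 2), (10, 2), (12, 2), (13, 2), (13, 2), (14, 2), (14, 2), (14, 2), (13, 2), (0, 0), (0, 0), (0, 0), (0, 0), (0, 0), (0, 0), (0, 0), (0, 0), (0, 0), (0, 0), (0, 0), (0, 0), (0, 0), (0, 0), (0, 0), (0, 0), (0, 0), (0, 0), (0, 0), (0, 0), (0, 0), (0, 0), (0, 0), (0, 0), (0, 0), (0, 0), (0, 0), (0, 0), (0, 0), (0, 0), (0, 0), (0, 0), (0, 0)],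
   [(9, 2), (10, 2), (0, 0), (21, 2), (0, 0), (3, 1), (3, 1), (21, 3), (0, 0), (21, 3), (7, 2), (0, 0), (0, 0), (9, 2), (0, 0), (0, 0), (7, 1), (7, 1), (0, 0), (0, 0), (16, 2), (0, 0), (0, 0), (0, 0), (0, 0), (9, 1), (10, 1), (0, 0), (0, 0), (0, 0), (0, 0), (0, 0), (0, 0), (0, 0), (0, 0), (0, 0), (0, 0), (0, 0), (0, 0), (0, 0), (0, 0), (0, 0), (0, 0), (0, 0), (0, 0), (0, 0), (0, 0), (0, 0)],
   [(8, 2), (0, 0), (10, 2), (23, 2), (12, 2), (0, 0), (3, 1), (23, 3), (23, 3), (0, 0), (7, 2), (0, 0), (8, 2), (0, 0), (0, 0), (19, 2), (0, 0), (7, 1), (0, 0), (15, 2), (0, 0), (0, 0), (8, 1), (0, 0), (19, 2), (0, 0), (0, 0), (0, 0), (0, 0), (0, 0), (0, 0), (0, 0), (0, 0), (0, 0), (0, 0), (0, 0), (0, 0), (0, 0), (0, 0), (0, 0), (0, 0), (0, 0), (0, 0), (0, 0), (0, 0), (0, 0), (0, 0), (0, 0)],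
   [(0, 0), (8, 2), (9, 2), (0, 1), (11, 2), (11, 2), (0, 0), (14, 2), (13, 2), (12, 2), (0, 0), (10, 2), (0, 0), (0, 0), (0, 0), (18, 2), (18, 2), (0, 0), (6, 2), (0, 0), (0, 0), (18, 2), (0, 0), (18, 2), (0, 0), (0, 0), (0, 0), (0, 0), (0, 0), (0, 0), (0, 0), (0, 0), (0, 0), (0, 0), (0, 0), (0, 0), (0, 0), (0, 0), (0, 0), (0, 0), (0, 0), (0, 0), (0, 0), (0, 0), (0, 0), (0, 0), (0, 0), (0, 0)]]

end CfsgLib.StructC.F4Two
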