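import Cfsg.Agent.Lib.StructC.F4Two.CoverRep
import Cfsg.Agent.Lib.KnownA.CExt.Mult
import Cfsg.Agent.Lib.KnownA.SchurCert
import Cfsg.Agent.Lib.Coprime.SchurAbelian
import Cfsg.Agent.Lib.Chev.StTorus

/-!
The Schur multiplier of `F4` over the field with two elements has order two.
-/

set_option autoImplicit false
set_option linter.unusedSectionVars false
set_option maxRecDepth 100000

namespace CfsgLib.StructC.F4Two

open Cfsg.Lie CfsgLib.Chev CfsgLib.KnownA.CExt
open scoped commutatorElement

theorem hmem : chevF4 ∈ [chevG2, chevB2, chevD4, chevF4, chevE6, chevE7, chevE8] := by simp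

variable {F : Type*} [Field F]

/-- The presentation by (R1), (R2). -/
theorem exists_coverGroupEquiv [Finite F] :
    ∃ f : chevF4.SteinbergCover F ≃* ↥(chevF4.group F),
      ∀ r < chevF4.nroots, ∀ t, (f (chevF4.scGen F r t) : GL chevF4.Idx F) = (good_of_mem hmem).xG r t := by
  set g := good_of_mem hmem
  have hc := hasComm_of_mem hmem
  obtain ⟨e, he⟩ := exists_coverEquiv (F := F) g hc (linked_of_mem hmem g)
  set T := stData g hc F with hT
  have hbij : Function.Bijective T.θG := by
    refine ⟨(MonoidHom.ker_eq_bot_iff _).1 ?_, T.θG_surjective⟩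
    rw [StData.θG_ker]
    exact stData_ker_eq_bot (by simp) g hc
  refine ⟨e.trans (MulEquiv.ofBijective T.θG hbij), fun r hr t => ?_⟩
  show T.θ (e (chevF4.scGen F r t)) = g.xG r t
  rw [he]
  exact T.θy r hr t

/-- The kernel of a stem extension is cyclic of order dividing two. -/
theorem bound [Fintype F] (h01 : ∀ t : F, t = 0 ∨ t = 1) (Γ : Type*) [Group Γ]
    [Finite Γ] (σ : Γ →* ↥(chevF4.group F)) (hσ : Cfsg.IsStemExtension σ) :
    IsCyclic σ.ker ∧ Nat.card σ.ker ∣ 2 := by
  obtain ⟨f, -⟩ := exists_coverGroupEquiv (F := F)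
  set g := good_of_mem hmem
  have hlink := linked_of_mem hmem g
  set S := scData g (hasComm_of_mem hmem) F
  have hperf : commutator (chevF4.SteinbergCover F) = ⊤ :=
    stPerfect_of_mem S hmem fun h => by
      rcases h with h | h <;> exact absurd (congrArg ChevalleyDatum.nroots h) (by decide)
  let π : Γ →* chevF4.SteinbergCover F := f.symm.toMonoidHom.comp σ
  have hker : π.ker = σ.ker := by
    ext x
    simp [π, MonoidHom.mem_ker]
  have hπ : IsCentralSurj π := ⟨f.symm.surjective.comp hσ.1, hker ▸ hσ.2.1⟩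
  have hstem : Cfsg.IsStemExtension π := ⟨hπ.surj, hπ.central, hker ▸ hσ.2.2⟩
  obtain ⟨hκ, hκ2⟩ := kap_spec S h01 hπ
  let N : Subgroup Γ := Subgroup.zpowers (kap S hπ)
  have hNk : N ≤ π.ker := Subgroup.zpowers_le.2 hκ
  have hNn : N.Normal := ⟨fun x hx y => by rwa [hπ.conj_ker (hNk hx) y]⟩
  have hstem' := CfsgLib.KnownA.SchurCert.stem_quotient hstem N hNk
  have hle : π.ker ≤ N := by
    let π' : Γ ⧸ N →* chevF4.SteinbergCover F := QuotientGroup.lift N π hNk
    have hπ' : IsCentralSurj π' := ⟨hstem'.1, hstem'.2.1⟩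
    have hpr : ∀ a b, pr S hπ' a b = QuotientGroup.mk' N (pr S hπ a b) := by
      intro a b
      obtain ⟨x, hx⟩ := hπ.surj (ye S a)
      obtain ⟨y, hy⟩ := hπ.surj (ye S b)
      rw [pr, pr, cpair_eq hπ' (x := QuotientGroup.mk' N x) (y := QuotientGroup.mk' N y) hx hy,
        ← map_commutatorElement, ← cpair_eq hπ hx hy]
    have hbase : pr S hπ' baseB baseA = lk S hπ' baseK * lk S hπ' baseM := by
      rw [lk, lk, hpr, hpr, hpr, ← map_mul]
      refine (QuotientGroup.eq).2 ?_
      have h1 : kap S hπ ∈ N := Subgroup.mem_zpowers _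
      have h2 := inv_mem h1
      rw [kap, mul_inv_rev, inv_inv] at h2
      exact h2
    obtain ⟨τ, hτ⟩ := exists_lift S h01 hπ' hlink hbase
    have hsec : π'.comp τ = MonoidHom.id _ := by
      refine MonoidHom.eq_of_eqOn_dense (closure_gen_eq_top (chevF4.steinbergRelsAB F)) ?_
      rintro _ ⟨r', hr', t, rfl⟩
      exact hτ r' hr' t
    have hb := stem_ker_eq_bot hperf hstem' hsec
    intro x hx
    have : QuotientGroup.mk' N x ∈ π'.ker := hx
    rw [hb, Subgroup.mem_bot, QuotientGroup.mk'_apply, QuotientGroup.eq_one_iff] at this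
    exact this
  rw [← hker, le_antisymm hle hNk]
  exact ⟨inferInstance, by
    rw [Nat.card_zpowers]
    exact orderOf_dvd_of_pow_eq_one (by rw [pow_two, hκ2])⟩

/-- The exceptional base pair is twisted. -/
theorem twB_base : twB baseA baseB = true := by decide +kernel

/-- The witness pairs are not twisted. -/
theorem twB_one {a b k : ℕ} (h : isOne (oddR a b) k = true) : twB a b = false := by
  rw [twB, isOne_spec h]
  simp [isNil, isOne, fstR]

/-- All generators are commutators. -/
theorem perfect_TW : commutator TW = ⊤ := by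
  have hy : ∀ k < 48, py k ∈ commutator TW := by
    intro k hk
    have h := allR_upto wit_ok hk
    simp only [Bool.and_eq_true] at h
    obtain ⟨ha, hb, -, -⟩ := valid_spec goodF4 h.1.1
    have e := py_rel h.1.1
    rw [twB_one h.1.2, if_neg Bool.false_ne_true, one_mul, isOne_spec h.1.2, List.map_cons,
      List.map_nil, List.prod_cons, List.prod_nil, mul_one] at e
    rw [← e]
    have : py (wit k).2 * py (wit k).1 * py (wit k).2 * py (wit k).1 =
        ⁅py (wit k).2, py (wit k).1⁆ := by
      rw [commutatorElement_def, inv_eq_of_mul_eq_one_right (py_sq ha),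
        inv_eq_of_mul_eq_one_right (py_sq hb)]
    rw [this, commutator_def]
    exact Subgroup.commutator_mem_commutator (Subgroup.mem_top _) (Subgroup.mem_top _)
  obtain ⟨hv, -, h2, -, -, -⟩ := base_spec
  obtain ⟨ha, hb, -, -⟩ := valid_spec goodF4 hv
  have e := py_rel hv
  rw [twB_base, if_pos rfl] at e
  have hz : pz ∈ commutator TW := by
    have hP : ((oddR baseA baseB).map py).prod ∈ commutator TW := by
      refine Subgroup.list_prod_mem _ fun x hx => ?_
      obtain ⟨k, hk, rfl⟩ := List.mem_map.1 hx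
      exact hy k (oddR_lt ha hb hk)
    rw [show pz = py baseB * py baseA * py baseB * py baseA *
      ((oddR baseA baseB).map py).prod⁻¹ by rw [e, mul_inv_cancel_right]]
    exact mul_mem (mul_mem (mul_mem (mul_mem (hy _ hb) (hy _ ha)) (hy _ hb)) (hy _ ha))
      (inv_mem hP)
  rw [eq_top_iff, ← closure_top, Subgroup.closure_le]
  rintro _ (rfl | ⟨r, hr, rfl⟩)
  · exact hz
  · exact hy r hr

/-- The right hand side of (R2) in any group. -/
theorem word_map {M : Type*} [Monoid M] (h01 : ∀ t : F, t = 0 ∨ t = 1) {r s : ℕ} (hr : r < 48)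
    (hs : s < 48) (L : ℕ → F → M) (f : ℕ → M) (hL0 : ∀ k, L k 0 = 1) (hL1 : ∀ k, L k 1 = f k) :
    ((chevF4.commWord F r s 1 1).map fun p => L p.1 p.2).prod = ((oddR r s).map f).prod := by
  rw [ChevalleyDatum.commWord, List.map_map, oddR, goodF4.fterms_eq hr hs]
  generalize chevF4.commTerms r s = T
  induction T with
  | nil => rfl
  | cons c T ih =>
    show L c.1 ((c.2.1 : F) * (-1) ^ c.2.2.1 * 1 ^ c.2.2.2) * _ =
      ((bif oddZ c.2.1 then c.1 :: _ else _).map f).prod
    rw [neg_one h01, one_pow, one_pow, mul_one, mul_one, cast_int h01]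
    cases hz' : oddZ c.2.1
    · rw [if_neg (by simp), hL0, one_mul, cond_false]
      rw [neg_one h01] at ih
      exact ih
    · rw [if_pos rfl, hL1, cond_true, List.map_cons, List.prod_cons]
      rw [neg_one h01] at ih
      exact congrArg (f c.1 * ·) ih

/-- The stem extension of order two. -/
theorem exists_stem [Fintype F] (h01 : ∀ t : F, t = 0 ∨ t = 1) :
    ∃ τ : TW →* ↥(chevF4.group F), Cfsg.IsStemExtension τ ∧ Nat.card τ.ker = 2 := by
  classical
  obtain ⟨f, -⟩ := exists_coverGroupEquiv (F := F)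
  set g := good_of_mem hmem
  set S := scData g (hasComm_of_mem hmem) F
  let im : Option (Fin 48) → chevF4.SteinbergCover F := fun o => o.elim 1 fun r => ye S r.val
  have hgy : ∀ r < 48, FreeGroup.lift im (gy r) = ye S r := fun r hr => by
    rw [gy, dif_pos hr, FreeGroup.lift_apply_of]
    rfl
  have hgz : FreeGroup.lift im gz = 1 := by rw [gz, FreeGroup.lift_apply_of]; rfl
  have hrel : ∀ x ∈ twRels, FreeGroup.lift im x = 1 := by
    rintro x (rfl | ⟨r, hr, rfl⟩ | ⟨r, hr, rfl⟩ | ⟨r, s, hv, rfl⟩)
    · rw [map_mul, hgz, one_mul]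
    · rw [map_mul, hgy r hr, ye_sq S h01 hr]
    · rw [map_mul, map_inv, map_mul, map_mul, hgz, one_mul, mul_one, mul_inv_cancel]
    · obtain ⟨hr, hs, -, -⟩ := valid_spec g hv
      rw [map_mul, map_inv, mul_inv_eq_one, map_mul, map_mul, map_mul, map_mul, hgy r hr, hgy s hs,
        map_list_prod, List.map_map, apply_ite (FreeGroup.lift im), hgz, map_one, ite_self, one_mul]
      rw [show (oddR r s).map (FreeGroup.lift im ∘ gy) = (oddR r s).map (ye S) from
        List.map_congr_left fun k hk => hgy k (oddR_lt hr hs hk), ← bracket S h01 hv,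
        commutatorElement_def, ye_inv S h01 hr, ye_inv S h01 hs]
  let χ : TW →* chevF4.SteinbergCover F := PresentedGroup.toGroup hrel
  let N : Subgroup TW := Subgroup.zpowers pz
  have hNz : N ≤ Subgroup.center TW := Subgroup.zpowers_le.2 pz_central
  have hNn : N.Normal := ⟨fun x hx y => by
    rwa [Subgroup.mem_center_iff.1 (hNz hx) y, mul_inv_cancel_right]⟩
  let L : ℕ → F → TW ⧸ N := fun r t => if t = 0 then 1 else QuotientGroup.mk' N (py r)
  have hL0 : ∀ r, L r 0 = 1 := fun r => if_pos rfl
  have hL1 : ∀ r, L r 1 = QuotientGroup.mk' N (py r) := fun r => if_neg one_ne_zero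
  have hst : ∀ r < chevF4.nroots, ∀ t,
      FreeGroup.lift (fun p : Fin chevF4.nroots × F => L p.1 p.2) (chevF4.stX r t) = L r t :=
    fun r hr t => by rw [ChevalleyDatum.stX, dif_pos hr, FreeGroup.lift_apply_of]
  have hsq : ∀ r < 48, QuotientGroup.mk' N (py r) * QuotientGroup.mk' N (py r) = 1 := fun r hr => by
    rw [← map_mul, py_sq hr, map_one]
  have hback : ∀ x ∈ chevF4.steinbergRelsAB F,
      FreeGroup.lift (fun p : Fin chevF4.nroots × F => L p.1 p.2) x = 1 := by
    rintro x (⟨r, a, b, hr, rfl⟩ | ⟨r, s, t, u, hr, hs, hsr, hneg, rfl⟩)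
    · rw [map_mul, map_mul, map_inv, hst r hr, hst r hr, hst r hr, mul_inv_eq_one]
      rcases h01 a with rfl | rfl <;> rcases h01 b with rfl | rfl <;>
        try simp only [hL0, one_mul, mul_one, add_zero, zero_add]
      rw [two_zero h01, hL0, hL1, hsq r hr]
    · rw [map_mul, map_mul, map_mul, map_mul, map_inv, map_inv, map_inv, hst s hs, hst r hr,
        mul_inv_eq_one, ChevalleyDatum.stWord, map_list_prod, List.map_map]
      rw [show (chevF4.commWord F r s t u).map
          ((FreeGroup.lift fun p : Fin chevF4.nroots × F => L p.1 p.2) ∘ fun p => chevF4.stX p.1 p.2) =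
          (chevF4.commWord F r s t u).map fun p => L p.1 p.2 from
        List.map_congr_left fun p hp => hst _ (LiftData.word_lt S hr hs hp) _]
      have hz : ∀ (t u : F), t = 0 ∨ u = 0 →
          ((chevF4.commWord F r s t u).map fun p => L p.1 p.2).prod = 1 := by
        intro t u h0
        refine List.prod_eq_one fun y hy => ?_
        obtain ⟨p, hp, rfl⟩ := List.mem_map.1 hy
        obtain ⟨c, hc, rfl⟩ := List.mem_map.1 hp
        obtain ⟨-, h1, h2, -⟩ := g.commTerms_co S.hc hr hs c hc
        show L c.1 _ = 1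
        rcases h0 with rfl | rfl
        · rw [neg_zero, zero_pow (by omega), mul_zero, zero_mul, hL0]
        · rw [zero_pow (M₀ := F) (show c.2.2.2 ≠ 0 by omega), mul_zero, hL0]
      rcases h01 t with rfl | rfl
      · rw [hz 0 u (Or.inl rfl), hL0]; group
      rcases h01 u with rfl | rfl
      · rw [hz 1 0 (Or.inr rfl), hL0]; group
      rw [word_map h01 hr hs L (fun k => QuotientGroup.mk' N (py k)) hL0 hL1, hL1, hL1,
        inv_eq_of_mul_eq_one_right (hsq s hs), inv_eq_of_mul_eq_one_right (hsq r hr)]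
      have hv : validB chevF4 r s = true := by
        simp only [validB, Bool.and_eq_true, Bool.not_eq_true', ← Bool.not_eq_true, Nat.beq_eq,
          Nat.blt_eq]
        exact ⟨⟨⟨Ne.symm hsr, fun e => hneg (e.trans (neg_eq g.lie.pack hr).symm)⟩, hr⟩, hs⟩
      have hpz : QuotientGroup.mk' N pz = 1 :=
        (QuotientGroup.eq_one_iff _).2 (Subgroup.mem_zpowers pz)
      rw [← map_mul, ← map_mul, ← map_mul, py_rel hv, map_mul, map_list_prod, List.map_map,
        apply_ite (QuotientGroup.mk' N), map_one, hpz, ite_self, one_mul]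
      rfl
  let ψ : chevF4.SteinbergCover F →* TW ⧸ N := PresentedGroup.toGroup hback
  have hyψ : ∀ r < 48, ψ (ye S r) = QuotientGroup.mk' N (py r) := fun r hr => by
    rw [← hL1, ← hst r hr 1]
    rfl
  have hχy : ∀ r < 48, χ (py r) = ye S r := fun r hr => hgy r hr
  have hχz : χ pz = 1 := hgz
  have hcomp : ψ.comp χ = QuotientGroup.mk' N := by
    refine MonoidHom.eq_of_eqOn_dense closure_top ?_
    rintro _ (rfl | ⟨r, hr, rfl⟩)
    · show ψ (χ pz) = QuotientGroup.mk' N pz
      rw [hχz, map_one, eq_comm]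
      exact (QuotientGroup.eq_one_iff _).2 (Subgroup.mem_zpowers pz)
    · show ψ (χ (py r)) = _
      rw [hχy r hr, hyψ r hr]
  have hker : χ.ker = N := by
    refine le_antisymm (fun x hx => ?_) (Subgroup.zpowers_le.2 hχz)
    have h := DFunLike.congr_fun hcomp x
    rw [MonoidHom.comp_apply, MonoidHom.mem_ker.1 hx, map_one] at h
    exact (QuotientGroup.eq_one_iff _).1 h.symm
  have hsurj : Function.Surjective χ := by
    rw [← MonoidHom.range_eq_top, eq_top_iff, ← closure_gen_eq_top (chevF4.steinbergRelsAB F),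
      Subgroup.closure_le]
    rintro _ ⟨r, hr, t, rfl⟩
    rcases h01 t with rfl | rfl
    · exact ⟨1, by rw [map_one]; exact (S.y_zero hr).symm⟩
    · exact ⟨py r, hχy r hr⟩
  refine ⟨f.toMonoidHom.comp χ, ?_⟩
  have hk : (f.toMonoidHom.comp χ).ker = N := by
    rw [← hker]
    ext x
    simp [MonoidHom.mem_ker]
  refine ⟨⟨f.surjective.comp hsurj, by rw [hk]; exact hNz, fun x _ => ?_⟩, by rw [hk]; exact card_zpowers_pz⟩
  rw [perfect_TW]
  exact Subgroup.mem_top x

/-- The Schur multiplier of `F4` over two elements. -/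
theorem multiplier_F4_two [Fintype F] (hF : Fintype.card F = 2) :
    Cfsg.HasCyclicSchurMultiplier ↥(chevF4.group F) 2 := by
  classical
  have h01 : ∀ t : F, t = 0 ∨ t = 1 := by
    intro t
    by_contra h
    push Not at h
    have hle := Finset.card_le_univ ({0, 1, t} : Finset F)
    rw [Finset.card_insert_of_notMem (by simp [h.1.symm]), Finset.card_insert_of_notMem
      (by simp [h.2.symm]), Finset.card_singleton, hF] at hle
    omega
  haveI : Finite ↥(chevF4.group F) :=
    Finite.of_injective _ (Subgroup.subtype_injective (chevF4.group F))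
  obtain ⟨τ, hτ, hcard⟩ := exists_stem (F := F) h01
  exact CfsgLib.Schur.hasCyclicSchurMultiplier_of_bound' hτ hcard
    fun Γ _ _ σ hσ => bound h01 Γ σ hσ

end CfsgLib.StructC.F4Two
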